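import Mathlib
import Cfsg.Agent.H918.Transv
set_option linter.all false

/-!
# Rank-one elements are in no tensor product subgroup
-/

set_option autoImplicit false

namespace Cfsg.Agent.H918

open Cfsg
open scoped Matrix MatrixGroups Kronecker

theorem coe_ne_vecMulVec {F : Type*} [Field F] {n : ℕ} (hn : 2 ≤ n) (b : Matrix.GeneralLinearGroup (Fin n) F)
    (U V : Fin n → F) : (b : Matrix (Fin n) (Fin n) F) ≠ Matrix.vecMulVec U V := by
  intro h
  have h1 : (b : Matrix (Fin n) (Fin n) F).rank = Fintype.card (Fin n) :=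
    Matrix.rank_of_isUnit _ b.isUnit
  have h2 := Matrix.rank_vecMulVec_le U V
  rw [h] at h1
  rw [h1, Fintype.card_fin] at h2
  omega

/-- A Kronecker product of invertible matrices of sizes at least two is not `1 + u wᵀ`. -/
theorem kronecker_ne_one_add_vecMulVec {F : Type*} [Field F] {n₁ n₂ : ℕ} (h₁ : 2 ≤ n₁) (h₂ : 2 ≤ n₂)
    (a : Matrix.GeneralLinearGroup (Fin n₁) F) (b : Matrix.GeneralLinearGroup (Fin n₂) F)
    {u w : Fin n₁ × Fin n₂ → F} (hu : u ≠ 0) (hw : w ≠ 0) :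
    (a : Matrix (Fin n₁) (Fin n₁) F) ⊗ₖ (b : Matrix (Fin n₂) (Fin n₂) F) ≠
      1 + Matrix.vecMulVec u w := by
  intro h
  have he : ∀ i k j l, (a : Matrix (Fin n₁) (Fin n₁) F) i k * (b : Matrix (Fin n₂) (Fin n₂) F) j l =
      (if i = k ∧ j = l then 1 else 0) + u (i, j) * w (k, l) := by
    intro i k j l
    have := congrFun (congrFun h (i, j)) (k, l)
    rw [Matrix.kroneckerMap_apply, Matrix.add_apply, Matrix.one_apply, Matrix.vecMulVec_apply] at this
    simpa only [Prod.mk.injEq] using this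
  have ha : ∀ i k, i ≠ k → (a : Matrix (Fin n₁) (Fin n₁) F) i k = 0 := by
    intro i k hik
    by_contra hne
    apply coe_ne_vecMulVec h₂ b (fun j => ((a : Matrix (Fin n₁) (Fin n₁) F) i k)⁻¹ * u (i, j))
      (fun l => w (k, l))
    ext j l
    rw [Matrix.vecMulVec_apply, mul_assoc]
    have := he i k j l
    rw [if_neg (fun hh => hik hh.1), zero_add] at this
    rw [← this, ← mul_assoc, inv_mul_cancel₀ hne, one_mul]
  have hb : ∀ j l, j ≠ l → (b : Matrix (Fin n₂) (Fin n₂) F) j l = 0 := by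
    intro j l hjl
    by_contra hne
    apply coe_ne_vecMulVec h₁ a (fun i => ((b : Matrix (Fin n₂) (Fin n₂) F) j l)⁻¹ * u (i, j))
      (fun k => w (k, l))
    ext i k
    rw [Matrix.vecMulVec_apply, mul_assoc]
    have := he i k j l
    rw [if_neg (fun hh => hjl hh.2), zero_add] at this
    rw [← this, mul_comm (((b : Matrix (Fin n₂) (Fin n₂) F) j l)⁻¹), mul_assoc, mul_inv_cancel₀ hne, mul_one]
  have huw : ∀ i k j l, (i, j) ≠ (k, l) → u (i, j) * w (k, l) = 0 := by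
    intro i k j l hne
    have := he i k j l
    rw [if_neg (fun hh => hne (Prod.ext hh.1 hh.2)), zero_add] at this
    rw [← this]
    by_cases hik : i = k
    · have hjl : j ≠ l := fun hh => hne (Prod.ext hik hh)
      rw [hb j l hjl, mul_zero]
    · rw [ha i k hik, zero_mul]
  obtain ⟨⟨i0, j0⟩, hu0⟩ := Function.ne_iff.1 hu
  obtain ⟨⟨k0, l0⟩, hw0⟩ := Function.ne_iff.1 hw
  have hw' : ∀ k l, (i0, j0) ≠ (k, l) → w (k, l) = 0 := by
    intro k l hne
    exact (mul_eq_zero.1 (huw i0 k j0 l hne)).resolve_left hu0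
  have hkl : (i0, j0) = (k0, l0) := by
    by_contra hne
    exact hw0 (hw' k0 l0 hne)
  obtain ⟨rfl, rfl⟩ := Prod.mk.inj hkl
  obtain ⟨i1, hi1⟩ : ∃ i1 : Fin n₁, i1 ≠ i0 := by
    have : Nontrivial (Fin n₁) := Fin.nontrivial_iff_two_le.2 h₁
    exact exists_ne i0
  obtain ⟨j1, hj1⟩ : ∃ j1 : Fin n₂, j1 ≠ j0 := by
    have : Nontrivial (Fin n₂) := Fin.nontrivial_iff_two_le.2 h₂
    exact exists_ne j0
  have e1 := he i1 i1 j1 j1
  have e2 := he i0 i0 j1 j1
  have e3 := he i1 i1 j0 j0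
  have e4 := he i0 i0 j0 j0
  rw [if_pos ⟨rfl, rfl⟩, hw' i1 j1 (fun hh => hi1 (Prod.mk.inj hh).1.symm), mul_zero, add_zero] at e1
  rw [if_pos ⟨rfl, rfl⟩, hw' i0 j1 (fun hh => hj1 (Prod.mk.inj hh).2.symm), mul_zero, add_zero] at e2
  rw [if_pos ⟨rfl, rfl⟩, hw' i1 j0 (fun hh => hi1 (Prod.mk.inj hh).1.symm), mul_zero, add_zero] at e3
  rw [if_pos ⟨rfl, rfl⟩] at e4
  have e6 : (a : Matrix (Fin n₁) (Fin n₁) F) i0 i0 * (b : Matrix (Fin n₂) (Fin n₂) F) j0 j0 = 1 := by
    calc _ = ((a : Matrix (Fin n₁) (Fin n₁) F) i0 i0 * (b : Matrix (Fin n₂) (Fin n₂) F) j0 j0) *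
          ((a : Matrix (Fin n₁) (Fin n₁) F) i1 i1 * (b : Matrix (Fin n₂) (Fin n₂) F) j1 j1) := by
            rw [e1, mul_one]
      _ = ((a : Matrix (Fin n₁) (Fin n₁) F) i0 i0 * (b : Matrix (Fin n₂) (Fin n₂) F) j1 j1) *
          ((a : Matrix (Fin n₁) (Fin n₁) F) i1 i1 * (b : Matrix (Fin n₂) (Fin n₂) F) j0 j0) := by ring
      _ = 1 := by rw [e2, e3, mul_one]
  have e5 : u (i0, j0) * w (i0, j0) = 0 := by
    linear_combination e6 - e4
  exact (mul_ne_zero hu0 hw0) e5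


/-- Conjugating a rank-one element gives a rank-one element. -/
theorem IsRankOneElt.conj {ι : Type} [Fintype ι] [DecidableEq ι] {F : Type*} [Field F]
    {g : Matrix.GeneralLinearGroup ι F} (hg : IsRankOneElt g) (P : Matrix.GeneralLinearGroup ι F) :
    IsRankOneElt (P * g * P⁻¹) := by
  obtain ⟨u, w, hu, hw, h⟩ := hg
  refine ⟨(P : Matrix ι ι F) *ᵥ u, w ᵥ* ((P⁻¹ : Matrix.GeneralLinearGroup ι F) : Matrix ι ι F), ?_, ?_, ?_⟩
  · intro h0
    apply hu
    have := congrArg (fun y => ((P⁻¹ : Matrix.GeneralLinearGroup ι F) : Matrix ι ι F) *ᵥ y) h0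
    simpa only [Matrix.mulVec_mulVec, ← Units.val_mul, inv_mul_cancel, Units.val_one,
      Matrix.one_mulVec, Matrix.mulVec_zero] using this
  · intro h0
    apply hw
    have := congrArg (fun y => y ᵥ* (P : Matrix ι ι F)) h0
    simpa only [Matrix.vecMul_vecMul, ← Units.val_mul, inv_mul_cancel, Units.val_one,
      Matrix.vecMul_one, Matrix.zero_vecMul] using this
  · rw [Units.val_mul, Units.val_mul, h, Matrix.mul_add, Matrix.mul_one, Matrix.add_mul,
      ← Units.val_mul, mul_inv_cancel, Units.val_one, Matrix.mul_vecMulVec, Matrix.vecMulVec_mul]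

/-- Rank-one elements are in no tensor product subgroup. -/
theorem IsRankOneElt.not_mem_tensorProductSubgroup {ι : Type} [Fintype ι] [DecidableEq ι]
    {F : Type*} [Field F] {g : Matrix.GeneralLinearGroup ι F} (hg : IsRankOneElt g)
    {n₁ n₂ : ℕ} (h₁ : 2 ≤ n₁) (h₂ : 2 ≤ n₂) (e : ι ≃ Fin n₁ × Fin n₂)
    (P : Matrix.GeneralLinearGroup ι F) : g ∉ Geo.tensorProductSubgroup n₁ n₂ e P := by
  rintro ⟨g', ⟨k, ⟨a, b, hk⟩, rfl⟩, rfl⟩
  have h1 := hg.conj P⁻¹
  have h2 : P⁻¹ * ((MulAut.conj P).toMonoidHom ((Geo.glReindex e.symm).toMonoidHom k)) * P⁻¹⁻¹ =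
      Geo.glReindex e.symm k := by
    simp only [MulEquiv.coe_toMonoidHom, MulAut.conj_apply]
    group
  rw [h2] at h1
  obtain ⟨u, w, hu, hw, h⟩ := h1
  apply kronecker_ne_one_add_vecMulVec h₁ h₂ a b (u := u ∘ e.symm) (w := w ∘ e.symm)
  · intro h0
    apply hu
    funext i
    have := congrFun h0 (e i)
    simpa using this
  · intro h0
    apply hw
    funext i
    have := congrFun h0 (e i)
    simpa using this
  · rw [← hk]
    have h3 : (k : Matrix (Fin n₁ × Fin n₂) (Fin n₁ × Fin n₂) F) =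
        Matrix.reindex e e ((Geo.glReindex e.symm k : Matrix.GeneralLinearGroup ι F) : Matrix ι ι F) := by
      ext i j
      simp [Geo.glReindex]
    rw [h3, h]
    ext i j
    simp [Matrix.vecMulVec_apply, Matrix.one_apply]

theorem not_le_tensorProductSubgroup {ι : Type} [Fintype ι] [DecidableEq ι]
    {F : Type*} [Field F] {G : Subgroup (Matrix.GeneralLinearGroup ι F)}
    {g : Matrix.GeneralLinearGroup ι F} (hgG : g ∈ G) (hg : IsRankOneElt g)
    {n₁ n₂ : ℕ} (h₁ : 2 ≤ n₁) (h₂ : 2 ≤ n₂) (e : ι ≃ Fin n₁ × Fin n₂)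
    (P : Matrix.GeneralLinearGroup ι F) : ¬ G ≤ Geo.tensorProductSubgroup n₁ n₂ e P :=
  fun hle => hg.not_mem_tensorProductSubgroup h₁ h₂ e P (hle hgG)

/-- Passing from containment to equality for a maximal subgroup. -/
theorem eq_inf_of_maximal {G : Type*} [Group G] {K H M : Subgroup G} (hH : Geo.IsMaximalIn K H)
    (hHM : H ≤ M) (hKM : ¬ K ≤ M) : H = M ⊓ K := by
  rcases hH.2 (M ⊓ K) (le_inf hHM hH.1.le) inf_le_right with h | h
  · exact h.symm
  · exact absurd (inf_eq_right.1 h) hKM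

end Cfsg.Agent.H918
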