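import Mathlib
import Cfsg.Agent.H918.UBase
import Cfsg.Agent.H918.TransvTensor
set_option linter.all false

/-!
# `SU_n(q)` is in no geometric class member

For `n ≥ 3`, `(n, q) ≠ (3, 2)`, `|F| = q²`: `SUg n F q` acts absolutely irreducibly and is contained in no
stabiliser of a proper non-zero subspace, no decomposition stabiliser, no tensor product subgroup, no
normaliser of an extension field, no subfield subgroup, no normaliser of a non-scalar solvable group of
similarities.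
-/

set_option autoImplicit false

namespace Cfsg.Agent.H918

open Cfsg Cfsg.Agent.LieClassical.HermBasic
open scoped Matrix MatrixGroups

section Finite

variable {F : Type*} [Field F] [Fintype F] {n q : ℕ} (hF : Fintype.card F = q ^ 2)
include hF

/-- Non-trivial transvections are rank-one elements. -/
theorem tv_isRankOne {v : Fin n → F} {c : F} (hv : hermForm n F q v v = 0) (hc : c + c ^ q = 0)
    (hv0 : v ≠ 0) (hc0 : c ≠ 0) : IsRankOneElt (tv hF v c hv hc) := by
  refine ⟨c • v, fun j => v j ^ q, smul_ne_zero hc0 hv0, ?_, ?_⟩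
  · intro h
    apply hv0
    funext j
    exact (pow_q_eq_zero hF).1 (congrFun h j)
  · rw [coe_tv, Matrix.smul_vecMulVec]

theorem tv_eq_one_of_zero {v : Fin n → F} {c : F} (hv : hermForm n F q v v = 0)
    (hc : c + c ^ q = 0) (h0 : v = 0 ∨ c = 0) : tv hF v c hv hc = 1 := by
  apply Units.ext
  rw [coe_tv]
  rcases h0 with rfl | rfl
  · simp
  · simp

/-- `SU_n(q)` is generated by its rank-one elements. -/
theorem SUg_le_closure_rankOne (h32 : ¬ (n = 3 ∧ q = 2)) :
    SUg n F q ≤ Subgroup.closure {g | g ∈ SUg n F q ∧ IsRankOneElt g} := by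
  apply SUg_le_of_tv hF h32
  intro v c hv hc
  by_cases h0 : v = 0 ∨ c = 0
  · rw [tv_eq_one_of_zero hF hv hc h0]
    exact one_mem _
  · push Not at h0
    exact Subgroup.subset_closure ⟨tv_mem hF hv hc, tv_isRankOne hF hv hc h0.1 h0.2⟩

/-- `SU_n(q)` acts irreducibly, `n ≥ 3`. -/
theorem SUg_irreducible (hn : 3 ≤ n) : Geo.ActsIrreducibly (Geo.matrixSet (SUg n F q)) := by
  intro W hW
  by_cases hW0 : W = ⊥
  · exact Or.inl hW0
  right
  obtain ⟨w, hw, hw0⟩ := Submodule.exists_mem_ne_zero_of_ne_bot hW0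
  obtain ⟨c, hc0, hc⟩ := exists_trace_zero_ne hF
  -- an isotropic vector not orthogonal to a vector of `W` is in `W`
  have key : ∀ x ∈ W, ∀ v : Fin n → F, hermForm n F q v v = 0 → hermForm n F q x v ≠ 0 → v ∈ W := by
    intro x hx v hv hxv
    have h1 : (tv hF v c hv hc : Matrix (Fin n) (Fin n) F) *ᵥ x ∈ W := by
      apply hW _ ⟨tv hF v c hv hc, tv_mem hF hv hc, rfl⟩
      exact ⟨x, hx, by rw [Matrix.toLin'_apply]⟩
    rw [tv_mulVec] at h1
    have h2 : (c * hermForm n F q x v) • v ∈ W := by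
      have := W.sub_mem h1 hx
      rwa [add_sub_cancel_left] at this
    have h3 := W.smul_mem (c * hermForm n F q x v)⁻¹ h2
    rwa [smul_smul, inv_mul_cancel₀ (mul_ne_zero hc0 hxv), one_smul] at h3
  have hiso : ∀ v : Fin n → F, hermForm n F q v v = 0 → v ∈ W := by
    intro v hv
    by_cases hv0 : v = 0
    · rw [hv0]; exact W.zero_mem
    by_cases hwv : hermForm n F q w v = 0
    · have hvw : hermForm n F q v w = 0 := herm_eq_zero_swap hF hwv
      obtain ⟨z, -, hzz, hvz, hwz⟩ := Cfsg.Agent.LieClassical.HermGen.exists_iso_common hF (k := n)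
        (Cfsg.Agent.LieClassical.HermGen.mem_coordSub_top v)
        (Cfsg.Agent.LieClassical.HermGen.mem_coordSub_top w) hv0 hw0 hv hvw
      have hz : z ∈ W := key w hw z hzz hwz
      refine key z hz v hv ?_
      intro h
      exact hvz (herm_eq_zero_swap hF h)
    · exact key w hw v hv hwv
  rw [eq_top_iff]
  intro x _
  have hx : x = ∑ i, x i • (Pi.single i 1 : Fin n → F) := by
    funext j
    simp [Finset.sum_apply, Pi.single_apply]
  rw [hx]
  refine W.sum_mem fun i _ => W.smul_mem _ ?_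
  obtain ⟨j, hij⟩ : ∃ j : Fin n, i ≠ j := by
    have : Nontrivial (Fin n) := Fin.nontrivial_iff_two_le.2 (by omega)
    obtain ⟨j, hj⟩ := exists_ne i
    exact ⟨j, hj.symm⟩
  obtain ⟨p, p', a, b, -, hp, hp', hpp, hpp', -⟩ :=
    Cfsg.Agent.LieClassical.HermGen.exists_hyp_pair hF hij
  have h1 : (Pi.single i 1 : Fin n → F) = p' - b • p := by rw [hp']; abel
  rw [h1]
  exact W.sub_mem (hiso p' hpp') (W.smul_mem _ (hiso p hpp))

/-- `SU_n(q)` acts absolutely irreducibly, `n ≥ 3`. -/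
theorem SUg_absIrreducible (hn : 3 ≤ n) :
    Geo.ActsAbsolutelyIrreducibly (Geo.matrixSet (SUg n F q)) := by
  refine ⟨SUg_irreducible hF hn, ?_⟩
  intro M hM
  have hcomm : ∀ g ∈ SUg n F q, M * (g : Matrix (Fin n) (Fin n) F) = (g : Matrix (Fin n) (Fin n) F) * M :=
    fun g hg => hM _ ⟨g, hg, rfl⟩
  -- an isotropic vector
  obtain ⟨p, p', a, b, -, -, -, hpp, -, hpp'⟩ :=
    Cfsg.Agent.LieClassical.HermGen.exists_hyp_pair hF
      (i := (⟨0, by omega⟩ : Fin n)) (j := ⟨1, by omega⟩) (by simp)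
  obtain ⟨c, hc0, hc⟩ := exists_trace_zero_ne hF
  have hp0 : p ≠ 0 := by
    rintro rfl
    rw [herm_zero_left] at hpp'
    exact zero_ne_one hpp'
  have h1 : M *ᵥ ((tv hF p c hpp hc : Matrix (Fin n) (Fin n) F) *ᵥ p') =
      (tv hF p c hpp hc : Matrix (Fin n) (Fin n) F) *ᵥ (M *ᵥ p') := by
    rw [Matrix.mulVec_mulVec, Matrix.mulVec_mulVec, hcomm _ (tv_mem hF hpp hc)]
  rw [tv_mulVec, tv_mulVec, Matrix.mulVec_add, Matrix.mulVec_smul] at h1
  have h2 := add_left_cancel h1
  have hne : hermForm n F q p' p ≠ 0 := by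
    rw [herm_swap hF p p', hpp', one_pow]
    exact one_ne_zero
  set d : F := (c * hermForm n F q p' p)⁻¹ * (c * hermForm n F q (M *ᵥ p') p) with hd
  have h3 : M *ᵥ p = d • p := by
    have := congrArg (fun y => (c * hermForm n F q p' p)⁻¹ • y) h2
    simpa only [smul_smul, inv_mul_cancel₀ (mul_ne_zero hc0 hne), one_smul] using this
  -- the eigenspace is everything
  let W : Submodule F (Fin n → F) := LinearMap.ker (Matrix.toLin' (M - d • (1 : Matrix (Fin n) (Fin n) F)))
  have hWmem : ∀ x, x ∈ W ↔ M *ᵥ x = d • x := by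
    intro x
    simp only [W, LinearMap.mem_ker, Matrix.toLin'_apply, Matrix.sub_mulVec, Matrix.smul_mulVec,
      Matrix.one_mulVec, sub_eq_zero]
  have hWtop : W = ⊤ := by
    rcases SUg_irreducible hF hn W (by
      rintro _ ⟨g, hg, rfl⟩
      rintro _ ⟨x, hx, rfl⟩
      have hx' := (hWmem x).1 hx
      rw [hWmem, Matrix.toLin'_apply, Matrix.mulVec_mulVec, hcomm g hg, ← Matrix.mulVec_mulVec, hx',
        Matrix.mulVec_smul]) with h | h
    · exfalso
      have hpW : p ∈ W := (hWmem p).2 h3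
      rw [h, Submodule.mem_bot] at hpW
      exact hp0 hpW
    · exact h
  refine ⟨d, ?_⟩
  apply Matrix.ext_of_mulVec_single
  intro i
  have : (Pi.single i 1 : Fin n → F) ∈ W := by rw [hWtop]; exact Submodule.mem_top
  rw [(hWmem _).1 this, Matrix.smul_mulVec, Matrix.one_mulVec]

theorem exists_rankOne_mem (hn : 3 ≤ n) : ∃ g ∈ SUg n F q, IsRankOneElt g := by
  obtain ⟨p, p', a, b, -, -, -, hpp, -, hpp'⟩ :=
    Cfsg.Agent.LieClassical.HermGen.exists_hyp_pair hF
      (i := (⟨0, by omega⟩ : Fin n)) (j := ⟨1, by omega⟩) (by simp)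
  obtain ⟨c, hc0, hc⟩ := exists_trace_zero_ne hF
  have hp0 : p ≠ 0 := by
    rintro rfl
    rw [herm_zero_left] at hpp'
    exact zero_ne_one hpp'
  exact ⟨_, tv_mem hF hpp hc, tv_isRankOne hF hpp hc hp0 hc0⟩

/-! ### The classes -/

theorem SUg_not_le_subspaceStabilizer (hn : 3 ≤ n) {W : Submodule F (Fin n → F)}
    (hW : W ≠ ⊥) (hW' : W ≠ ⊤) : ¬ SUg n F q ≤ Geo.subspaceStabilizer W :=
  not_le_subspaceStabilizer (SUg_irreducible hF hn) hW hW'

theorem SUg_not_le_decompositionStabilizer (hn : 3 ≤ n) (h32 : ¬ (n = 3 ∧ q = 2)) {t m : ℕ}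
    {D : Fin t → Submodule F (Fin n → F)} (hD : Geo.IsMDecomposition m D) :
    ¬ SUg n F q ≤ Geo.decompositionStabilizer D :=
  not_le_decompositionStabilizer (SUg_perfect hF hn h32) (SUg_le_closure_rankOne hF h32)
    (SUg_irreducible hF hn) hD

theorem SUg_not_le_subalgebraNormalizer (hn : 3 ≤ n) (h32 : ¬ (n = 3 ∧ q = 2)) {r : ℕ} (hr : 2 ≤ r)
    {K : Subalgebra F (Matrix (Fin n) (Fin n) F)} (hK : Geo.IsFieldSubalgebra r K) :
    ¬ SUg n F q ≤ Geo.subalgebraNormalizer K :=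
  not_le_subalgebraNormalizer (SUg_perfect hF hn h32) (SUg_absIrreducible hF hn) hr hK

theorem SUg_not_le_tensorProductSubgroup (hn : 3 ≤ n) {n₁ n₂ : ℕ} (h₁ : 2 ≤ n₁) (h₂ : 2 ≤ n₂)
    (e : Fin n ≃ Fin n₁ × Fin n₂) (P : Matrix.GeneralLinearGroup (Fin n) F) :
    ¬ SUg n F q ≤ Geo.tensorProductSubgroup n₁ n₂ e P := by
  obtain ⟨g, hg, hg'⟩ := exists_rankOne_mem hF hn
  exact not_le_tensorProductSubgroup hg hg' h₁ h₂ e P

end Finite

end Cfsg.Agent.H918
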