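import Mathlib
import Cfsg.Agent.H918.UProper
set_option linter.all false

/-!
# `SU_n(q)` is in no subfield group and normalises no non-scalar solvable group of similarities
-/

set_option autoImplicit false
set_option linter.unusedSectionVars false

namespace Cfsg.Agent.H918

open Cfsg Cfsg.Agent.LieClassical.HermBasic
open scoped Matrix MatrixGroups

/-- The derived subgroup of a subfield group consists of matrices over the subfield (after the base change). -/
theorem commutator_subfieldSubgroup_le {ι : Type} [Fintype ι] [DecidableEq ι] {F : Type*} [Field F]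
    (F₀ : Subfield F) (P : Matrix.GeneralLinearGroup ι F) :
    ⁅Geo.subfieldSubgroup F₀ P, Geo.subfieldSubgroup F₀ P⁆ ≤
      ((Matrix.GeneralLinearGroup.map (n := ι) (F₀.subtype : F₀ →+* F)).range).map
        (MulAut.conj P).toMonoidHom := by
  rw [Geo.subfieldSubgroup, ← Subgroup.map_commutator]
  apply Subgroup.map_mono
  rw [Subgroup.commutator_le]
  intro a ha b hb
  obtain ⟨r, hr, z, hz, rfl⟩ := Subgroup.mem_sup_of_normal_right.1 ha
  obtain ⟨r', hr', z', hz', rfl⟩ := Subgroup.mem_sup_of_normal_right.1 hb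
  have c1 := commute_of_mem_scalars hz
  have c2 := commute_of_mem_scalars hz'
  rw [commutatorElement_def]
  have : r * z * (r' * z') * (r * z)⁻¹ * (r' * z')⁻¹ = r * r' * r⁻¹ * r'⁻¹ := by
    rw [mul_inv_rev, mul_inv_rev]
    calc r * z * (r' * z') * (z⁻¹ * r⁻¹) * (z'⁻¹ * r'⁻¹)
        = r * (z * (r' * z' * z⁻¹)) * r⁻¹ * z'⁻¹ * r'⁻¹ := by group
      _ = r * ((r' * z' * z⁻¹) * z) * r⁻¹ * z'⁻¹ * r'⁻¹ := by rw [c1]
      _ = r * r' * (z' * r⁻¹) * z'⁻¹ * r'⁻¹ := by group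
      _ = r * r' * (r⁻¹ * z') * z'⁻¹ * r'⁻¹ := by rw [c2]
      _ = r * r' * r⁻¹ * r'⁻¹ := by group
  rw [this]
  exact (MonoidHom.range _).mul_mem ((MonoidHom.range _).mul_mem ((MonoidHom.range _).mul_mem hr hr')
    ((MonoidHom.range _).inv_mem hr)) ((MonoidHom.range _).inv_mem hr')

theorem trace_mem_of_mem_map {ι : Type} [Fintype ι] [DecidableEq ι] {F : Type*} [Field F]
    {F₀ : Subfield F} {P g : Matrix.GeneralLinearGroup ι F}
    (hg : g ∈ ((Matrix.GeneralLinearGroup.map (n := ι) (F₀.subtype : F₀ →+* F)).range).map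
        (MulAut.conj P).toMonoidHom) : Matrix.trace (g : Matrix ι ι F) ∈ F₀ := by
  obtain ⟨_, ⟨a, rfl⟩, rfl⟩ := hg
  have : Matrix.trace (((MulAut.conj P).toMonoidHom
      (Matrix.GeneralLinearGroup.map (n := ι) (F₀.subtype : F₀ →+* F) a) :
      Matrix.GeneralLinearGroup ι F) : Matrix ι ι F) =
      Matrix.trace ((Matrix.GeneralLinearGroup.map (n := ι) (F₀.subtype : F₀ →+* F) a :
        Matrix.GeneralLinearGroup ι F) : Matrix ι ι F) := by
    simp only [MulEquiv.coe_toMonoidHom, MulAut.conj_apply, Units.val_mul]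
    rw [Matrix.trace_mul_comm, ← mul_assoc, ← Units.val_mul, inv_mul_cancel, Units.val_one, one_mul]
  rw [this, Matrix.trace]
  refine F₀.sum_mem fun i _ => ?_
  simp

/-- The rank-one part of a transvection. -/
theorem trace_three {F : Type*} [Field F] {n q : ℕ} {v₁ v₂ v₃ : Fin n → F} (c₁ c₂ c₃ : F) :
    Matrix.trace ((c₁ • Matrix.vecMulVec v₁ (fun j => v₁ j ^ q)) *
      (c₂ • Matrix.vecMulVec v₂ (fun j => v₂ j ^ q)) * (c₃ • Matrix.vecMulVec v₃ (fun j => v₃ j ^ q))) =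
      c₁ * c₂ * c₃ * (hermForm n F q v₂ v₁ * hermForm n F q v₃ v₂ * hermForm n F q v₁ v₃) := by
  have hdot : ∀ a b : Fin n → F, (fun j => a j ^ q) ⬝ᵥ b = hermForm n F q b a := by
    intro a b
    rw [herm_def, dotProduct]
    exact Finset.sum_congr rfl fun i _ => mul_comm _ _
  simp only [Matrix.smul_mul, Matrix.mul_smul, Matrix.vecMulVec_mul_vecMulVec, Matrix.trace_smul,
    Matrix.trace_vecMulVec, smul_eq_mul, hdot, Matrix.vecMulVec_smul, dotProduct_comm v₁]
  ring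


section Finite

variable {F : Type*} [Field F] [Fintype F] {n q : ℕ} (hF : Fintype.card F = q ^ 2)
include hF

/-- `SU_n(q)` is in no subfield group for a proper subfield. -/
theorem SUg_not_le_subfieldSubgroup (hn : 3 ≤ n) (h32 : ¬ (n = 3 ∧ q = 2)) {F₀ : Subfield F}
    (hF₀ : F₀ ≠ ⊤) (P : Matrix.GeneralLinearGroup (Fin n) F) :
    ¬ SUg n F q ≤ Geo.subfieldSubgroup F₀ P := by
  intro hle
  have htr : ∀ g ∈ SUg n F q, Matrix.trace (g : Matrix (Fin n) (Fin n) F) ∈ F₀ := by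
    intro g hg
    apply trace_mem_of_mem_map (P := P)
    apply commutator_subfieldSubgroup_le F₀ P
    apply Subgroup.commutator_mono hle hle
    rw [SUg_perfect hF hn h32]
    exact hg
  -- traces of products of rank-one parts
  have h0 : (n : F) ∈ F₀ := natCast_mem F₀ n
  have key : ∀ (v₁ v₂ v₃ : Fin n → F) (c₁ c₂ c₃ : F), hermForm n F q v₁ v₁ = 0 →
      hermForm n F q v₂ v₂ = 0 → hermForm n F q v₃ v₃ = 0 → c₁ + c₁ ^ q = 0 → c₂ + c₂ ^ q = 0 →
      c₃ + c₃ ^ q = 0 →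
      c₁ * c₂ * c₃ * (hermForm n F q v₂ v₁ * hermForm n F q v₃ v₂ * hermForm n F q v₁ v₃) ∈ F₀ := by
    intro v₁ v₂ v₃ c₁ c₂ c₃ h₁ h₂ h₃ hc₁ hc₂ hc₃
    set g₁ := tv hF v₁ c₁ h₁ hc₁
    set g₂ := tv hF v₂ c₂ h₂ hc₂
    set g₃ := tv hF v₃ c₃ h₃ hc₃
    have m₁ : g₁ ∈ SUg n F q := tv_mem hF h₁ hc₁
    have m₂ : g₂ ∈ SUg n F q := tv_mem hF h₂ hc₂
    have m₃ : g₃ ∈ SUg n F q := tv_mem hF h₃ hc₃
    set A := c₁ • Matrix.vecMulVec v₁ (fun j => v₁ j ^ q) with hA
    set B := c₂ • Matrix.vecMulVec v₂ (fun j => v₂ j ^ q) with hB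
    set C := c₃ • Matrix.vecMulVec v₃ (fun j => v₃ j ^ q) with hC
    have e₁ : (g₁ : Matrix (Fin n) (Fin n) F) = 1 + A := coe_tv hF h₁ hc₁
    have e₂ : (g₂ : Matrix (Fin n) (Fin n) F) = 1 + B := coe_tv hF h₂ hc₂
    have e₃ : (g₃ : Matrix (Fin n) (Fin n) F) = 1 + C := coe_tv hF h₃ hc₃
    have t₁ := htr _ m₁
    have t₂ := htr _ m₂
    have t₃ := htr _ m₃
    have t₁₂ := htr _ ((SUg n F q).mul_mem m₁ m₂)
    have t₁₃ := htr _ ((SUg n F q).mul_mem m₁ m₃)
    have t₂₃ := htr _ ((SUg n F q).mul_mem m₂ m₃)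
    have t₁₂₃ := htr _ ((SUg n F q).mul_mem ((SUg n F q).mul_mem m₁ m₂) m₃)
    rw [← trace_three]
    have e : Matrix.trace (A * B * C) =
        Matrix.trace ((g₁ * g₂ * g₃ : Matrix.GeneralLinearGroup (Fin n) F) : Matrix (Fin n) (Fin n) F)
        - Matrix.trace ((g₁ * g₂ : Matrix.GeneralLinearGroup (Fin n) F) : Matrix (Fin n) (Fin n) F)
        - Matrix.trace ((g₁ * g₃ : Matrix.GeneralLinearGroup (Fin n) F) : Matrix (Fin n) (Fin n) F)
        - Matrix.trace ((g₂ * g₃ : Matrix.GeneralLinearGroup (Fin n) F) : Matrix (Fin n) (Fin n) F)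
        + Matrix.trace (g₁ : Matrix (Fin n) (Fin n) F) + Matrix.trace (g₂ : Matrix (Fin n) (Fin n) F)
        + Matrix.trace (g₃ : Matrix (Fin n) (Fin n) F) - (n : F) := by
      simp only [Units.val_mul, e₁, e₂, e₃]
      have hone : Matrix.trace (1 : Matrix (Fin n) (Fin n) F) = (n : F) := by
        rw [Matrix.trace_one, Fintype.card_fin]
      rw [← hone]
      simp only [← Matrix.trace_sub, ← Matrix.trace_add]
      congr 1
      noncomm_ring
    rw [e]
    exact F₀.sub_mem (F₀.add_mem (F₀.add_mem (F₀.add_mem (F₀.sub_mem (F₀.sub_mem (F₀.sub_mem t₁₂₃ t₁₂)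
      t₁₃) t₂₃) t₁) t₂) t₃) h0
  -- a hyperbolic pair
  obtain ⟨p, p', -, -, -, -, -, hpp, hp'p', hpp'⟩ :=
    Cfsg.Agent.LieClassical.HermGen.exists_hyp_pair hF
      (i := (⟨0, by omega⟩ : Fin n)) (j := ⟨1, by omega⟩) (by simp)
  obtain ⟨c, hc0, hc⟩ := exists_trace_zero_ne hF
  apply hF₀
  rw [eq_top_iff]
  intro a _
  set x : F := a / (c * c * c) with hx
  obtain ⟨r, -, hrp, hrp', hrr⟩ := Cfsg.Agent.LieClassical.HermGen.exists_perp hF hn le_rfl
    (Cfsg.Agent.LieClassical.HermGen.mem_coordSub_top p)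
    (Cfsg.Agent.LieClassical.HermGen.mem_coordSub_top p') hpp hp'p'
    (by rw [hpp']; exact one_ne_zero) (c := -(x + x ^ q))
    (by rw [neg_pow_q hF, trace_pow_q hF])
  have hp'p : hermForm n F q p' p = 1 := by rw [herm_swap hF p p', hpp', one_pow]
  have hpr : hermForm n F q p r = 0 := herm_eq_zero_swap hF hrp
  have hp'r : hermForm n F q p' r = 0 := herm_eq_zero_swap hF hrp'
  set v₃ : Fin n → F := x • p + p' + r with hv₃
  have h33 : hermForm n F q v₃ v₃ = 0 := by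
    rw [hv₃]
    simp only [herm_add_left, herm_add_right hF, herm_smul_left, herm_smul_right, hpp, hp'p', hpp',
      hp'p, hrp, hrp', hpr, hp'r, hrr]
    ring
  have h3p' : hermForm n F q v₃ p' = x := by
    rw [hv₃]
    simp only [herm_add_left, herm_smul_left, hpp', hp'p', hrp']
    ring
  have hp3 : hermForm n F q p v₃ = 1 := by
    rw [hv₃]
    simp only [herm_add_right hF, herm_smul_right, hpp, hpp', hpr]
    ring
  have h := key p p' v₃ c c c hpp hp'p' h33 hc hc hc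
  rw [hp'p, h3p', hp3, one_mul, mul_one, hx, mul_div_cancel₀ _ (by
    exact mul_ne_zero (mul_ne_zero hc0 hc0) hc0)] at h
  exact h

/-- Conjugates by similarities preserve `SU_n(q)`. -/
theorem conj_mem_SUg {r : Matrix.GeneralLinearGroup (Fin n) F}
    (hr : r ∈ Geo.similarityGroup (hermForm n F q)) {g : Matrix.GeneralLinearGroup (Fin n) F}
    (hg : g ∈ SUg n F q) : r * g * r⁻¹ ∈ SUg n F q := by
  rw [mem_SUg] at hg ⊢
  obtain ⟨c, hc⟩ := hr
  constructor
  · intro u v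
    have h1 : ∀ u, (r : Matrix (Fin n) (Fin n) F) *ᵥ
        (((r⁻¹ : Matrix.GeneralLinearGroup (Fin n) F) : Matrix (Fin n) (Fin n) F) *ᵥ u) = u := by
      intro u
      rw [Matrix.mulVec_mulVec, ← Units.val_mul, mul_inv_cancel, Units.val_one, Matrix.one_mulVec]
    rw [Units.val_mul, Units.val_mul, ← Matrix.mulVec_mulVec, ← Matrix.mulVec_mulVec,
      ← Matrix.mulVec_mulVec, ← Matrix.mulVec_mulVec, hc, hg.1, ← hc, h1, h1]
  · rw [Units.val_mul, Units.val_mul, Matrix.det_mul, Matrix.det_mul, hg.2, mul_one, ← Matrix.det_mul,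
      ← Units.val_mul, mul_inv_cancel, Units.val_one, Matrix.det_one]

/-- `SU_n(q)` normalises no non-scalar solvable group of similarities. -/
theorem SUg_not_le_subgroupNormalizer (hn : 3 ≤ n) (h32 : ¬ (n = 3 ∧ q = 2))
    {R : Subgroup (Matrix.GeneralLinearGroup (Fin n) F)}
    (hR : R ≤ Geo.similarityGroup (hermForm n F q)) (hsolv : Group.IsSolvable R)
    (hRs : ¬ R ≤ Geo.scalars (Fin n) F) : ¬ SUg n F q ≤ Geo.subgroupNormalizer R := by
  have : Nonempty (Fin n) := ⟨⟨0, by omega⟩⟩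
  exact not_le_subgroupNormalizer (SUg_perfect hF hn h32)
    (fun N hN hnorm => SUg_normal hF hn h32 hN hnorm) (SUg_absIrreducible hF hn)
    (fun r hr g hg => conj_mem_SUg hF (hR hr) hg) hsolv hRs

theorem GU_le_similarityGroup : Cfsg.GU n F q ≤ Geo.similarityGroup (hermForm n F q) := by
  intro g hg
  exact ⟨1, fun u v => by rw [Units.val_one, one_mul]; exact hg u v⟩

end Finite

end Cfsg.Agent.H918
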