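import Mathlib
import Cfsg.Agent.H918.UProperTwo
import Cfsg.Agent.H921.SympDim
import Cfsg.Agent.H912.Core4
set_option linter.all false

/-!
# Maximal subgroups of `SU_n(q)`: from containment in a class member to equality

`unitary_maximal_cases`: if `H` is maximal in `SU_n(q)` (`n ≥ 3`, `(n, q) ≠ (3, 2)`) and `H` lies in a member of
`InUnitaryClass` or in the residual class, then `H` is one of the listed intersections, with the arithmetic
conditions on the parameters made explicit.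
-/

set_option autoImplicit false

namespace Cfsg.Agent.H918

open Cfsg Cfsg.Agent.LieClassical.HermBasic
open scoped Matrix MatrixGroups

/-- The scalars do not act irreducibly in dimension at least two. -/
theorem not_le_scalars_of_irreducible {ι : Type} [Fintype ι] [DecidableEq ι] {F : Type*} [Field F]
    (hι : 2 ≤ Fintype.card ι) {R : Subgroup (Matrix.GeneralLinearGroup ι F)}
    (h : Geo.ActsIrreducibly (Geo.matrixSet R)) : ¬ R ≤ Geo.scalars ι F := by
  intro hle
  have hne : Nonempty ι := Fintype.card_pos_iff.1 (by omega)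
  obtain ⟨i⟩ := hne
  rcases h (Submodule.span F {(Pi.single i 1 : ι → F)}) (by
    rintro _ ⟨g, hg, rfl⟩
    obtain ⟨c, hc⟩ := (Geo.mem_scalars_iff g).1 (hle hg)
    rintro _ ⟨x, hx, rfl⟩
    rw [Matrix.toLin'_apply]
    change (g : Matrix ι ι F) *ᵥ x ∈ _
    rw [hc, Matrix.smul_mulVec, Matrix.one_mulVec]
    exact Submodule.smul_mem _ _ hx) with h1 | h1
  · have : (Pi.single i 1 : ι → F) ∈ Submodule.span F {(Pi.single i 1 : ι → F)} :=
      Submodule.mem_span_singleton_self _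
    rw [h1, Submodule.mem_bot] at this
    have := congrFun this i
    simp at this
  · have h2 : Module.finrank F (Submodule.span F {(Pi.single i 1 : ι → F)}) ≤ 1 :=
      (finrank_span_le_card _).trans (by simp)
    rw [h1, finrank_top, Module.finrank_fintype_fun_eq_card] at h2
    omega

/-- A decomposition has `t * m = card ι`. -/
theorem decomp_card {ι : Type} [Fintype ι] [DecidableEq ι] {F : Type*} [Field F] {t m : ℕ}
    {D : Fin t → Submodule F (ι → F)} (hD : Geo.IsMDecomposition m D) : t * m = Fintype.card ι := by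
  have hint : DirectSum.IsInternal D :=
    DirectSum.isInternal_submodule_of_iSupIndep_of_iSup_eq_top hD.indep hD.iSup_eq_top
  have h := (DirectSum.IsInternal.collectedBasis hint
    (fun i => Module.finBasis F (D i)))
  have h1 := Module.finrank_eq_card_basis h
  rw [Module.finrank_fintype_fun_eq_card, Fintype.card_sigma] at h1
  rw [h1]
  simp [hD.finrank_eq]

section Finite

variable {F : Type*} [Field F] [Fintype F] {n q : ℕ} (hF : Fintype.card F = q ^ 2)
include hF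

/-- A maximal subgroup of `SU_n(q)` does not cover `PSU_n(q)`. -/
theorem sup_scalars_ne (hn : 3 ≤ n) (h32 : ¬ (n = 3 ∧ q = 2))
    {H : Subgroup (Matrix.GeneralLinearGroup (Fin n) F)}
    (hH : Geo.IsMaximalIn (SUg n F q) H) :
    H ⊔ (Geo.scalars (Fin n) F ⊓ SUg n F q) ≠ SUg n F q := by
  intro heq
  have hle : ⁅SUg n F q, SUg n F q⁆ ≤ H := by
    conv_lhs => rw [← heq]
    rw [Subgroup.commutator_le]
    have hZ : ∀ a ∈ H ⊔ (Geo.scalars (Fin n) F ⊓ SUg n F q), ∃ h ∈ H, ∃ z ∈ Geo.scalars (Fin n) F,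
        a = h * z := by
      intro a ha
      have hle' : H ⊔ (Geo.scalars (Fin n) F ⊓ SUg n F q) ≤ H ⊔ Geo.scalars (Fin n) F :=
        sup_le_sup_left inf_le_left _
      obtain ⟨h, hh, z, hz, rfl⟩ := Subgroup.mem_sup_of_normal_right.1 (hle' ha)
      exact ⟨h, hh, z, hz, rfl⟩
    intro a ha b hb
    obtain ⟨h, hh, z, hz, rfl⟩ := hZ a ha
    obtain ⟨h', hh', z', hz', rfl⟩ := hZ b hb
    have c1 := commute_of_mem_scalars hz
    have c2 := commute_of_mem_scalars hz'
    rw [commutatorElement_def]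
    have : h * z * (h' * z') * (h * z)⁻¹ * (h' * z')⁻¹ = h * h' * h⁻¹ * h'⁻¹ := by
      rw [mul_inv_rev, mul_inv_rev]
      calc h * z * (h' * z') * (z⁻¹ * h⁻¹) * (z'⁻¹ * h'⁻¹)
          = h * (z * (h' * z' * z⁻¹)) * h⁻¹ * z'⁻¹ * h'⁻¹ := by group
        _ = h * ((h' * z' * z⁻¹) * z) * h⁻¹ * z'⁻¹ * h'⁻¹ := by rw [c1]
        _ = h * h' * (z' * h⁻¹) * z'⁻¹ * h'⁻¹ := by group
        _ = h * h' * (h⁻¹ * z') * z'⁻¹ * h'⁻¹ := by rw [c2]
        _ = h * h' * h⁻¹ * h'⁻¹ := by group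
    rw [this]
    exact H.mul_mem (H.mul_mem (H.mul_mem hh hh') (H.inv_mem hh)) (H.inv_mem hh')
  rw [SUg_perfect hF hn h32] at hle
  exact absurd hH.1 (not_lt_of_ge hle)

theorem subfield_ne_top_of_card {F₀ : Subfield F} {r : ℕ} (hr : 2 ≤ r)
    (h : Fintype.card F = Nat.card F₀ ^ r) : F₀ ≠ ⊤ := by
  rintro rfl
  have h1 : Nat.card (⊤ : Subfield F) = Fintype.card F := by
    rw [Nat.card_congr (Subfield.topEquiv (K := F)).toEquiv, Nat.card_eq_fintype_card]
  rw [h1] at h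
  have h2 : 1 < Fintype.card F := Fintype.one_lt_card
  have h3 : Fintype.card F < Fintype.card F ^ r := by
    calc Fintype.card F = Fintype.card F ^ 1 := (pow_one _).symm
      _ < Fintype.card F ^ r := Nat.pow_lt_pow_right h2 (by omega)
  omega

/-- `e = 2` and `z = 4`: the minimal field is `F` with `|F| = p²`, `p ≡ 3 mod 4`. -/
theorem eq_prime_of_minimal {p : ℕ} (h : Geo.IsMinimalFieldFor 4 p 2 F) :
    p.Prime ∧ q = p ∧ p % 4 = 3 := by
  obtain ⟨hp, -, hc, h4, hd⟩ := h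
  have hqp : q = p := by
    rw [hF] at hc
    exact Nat.pow_left_injective two_ne_zero hc
  refine ⟨hp, hqp, ?_⟩
  have h1 := hd 1 one_pos one_lt_two
  rw [pow_one] at h1
  have h2 := hp.two_le
  have hodd : p % 2 = 1 := by
    rcases hp.eq_two_or_odd with h | h
    · subst h
      norm_num at h4
    · exact h
  by_contra hcon
  apply h1
  have : p % 4 = 1 := by omega
  omega

/-- The list of types of maximal subgroups of `SU_n(q)` before the exclusions for small `q`. -/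
theorem unitary_maximal_cases (hn : 3 ≤ n) (h32 : ¬ (n = 3 ∧ q = 2))
    {H : Subgroup (Matrix.GeneralLinearGroup (Fin n) F)}
    (hH : Geo.IsMaximalIn (SUg n F q) H)
    (hwr : ∀ (k t : ℕ) (e : Fin n ≃ (Fin t → Fin k)) (P : Matrix.GeneralLinearGroup (Fin n) F), 3 ≤ k →
      2 ≤ t → k ^ t = n → ¬ SUg n F q ≤ Geo.tensorWreathSubgroup k t e P)
    (h : (∃ M : Subgroup (Matrix.GeneralLinearGroup (Fin n) F), Geo.InUnitaryClass n F q M ∧ H ≤ M) ∨
      Geo.InUnitaryResidualClass H) :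
    (∃ W : Submodule F (Fin n → F), W ≠ ⊥ ∧ Geo.IsTotallySingularFor (hermForm n F q) W ∧
      H = Geo.subspaceStabilizer W ⊓ SUg n F q) ∨
    (∃ W : Submodule F (Fin n → F), W ≠ ⊥ ∧ Geo.IsNondegenerateOn (hermForm n F q) W ∧
      2 * Module.finrank F W < n ∧ H = Geo.subspaceStabilizer W ⊓ SUg n F q) ∨
    (∃ (t k : ℕ) (D : Fin t → Submodule F (Fin n → F)), t * k = n ∧ 2 ≤ t ∧
      Geo.IsNondegenerateMDecomposition (hermForm n F q) k D ∧
      H = Geo.decompositionStabilizer D ⊓ SUg n F q) ∨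
    (∃ (k : ℕ) (D : Fin 2 → Submodule F (Fin n → F)), 2 * k = n ∧ Geo.IsMDecomposition k D ∧
      (∀ i, Geo.IsTotallySingularFor (hermForm n F q) (D i)) ∧
      H = Geo.decompositionStabilizer D ⊓ SUg n F q) ∨
    (∃ (F₀ : Subfield F) (r : ℕ) (P : Matrix.GeneralLinearGroup (Fin n) F), r.Prime ∧ Odd r ∧
      Fintype.card F = Nat.card F₀ ^ r ∧ Geo.IsFormRationalStructure (hermForm n F q) F₀ 1 P ∧
      H = Geo.subfieldSubgroup F₀ P ⊓ SUg n F q) ∨
    (∃ (F₀ : Subfield F) (P : Matrix.GeneralLinearGroup (Fin n) F), Odd q ∧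
      Fintype.card F = Nat.card F₀ ^ 2 ∧ Geo.IsFormRationalStructure (hermForm n F q) F₀ 1 P ∧
      H = Geo.subfieldSubgroup F₀ P ⊓ SUg n F q) ∨
    (∃ (F₀ : Subfield F) (P : Matrix.GeneralLinearGroup (Fin n) F) (ζ : F), Even n ∧
      Fintype.card F = Nat.card F₀ ^ 2 ∧ ζ ≠ 0 ∧ ζ + ζ ^ q = 0 ∧
      Geo.IsFormRationalStructure (hermForm n F q) F₀ ζ P ∧
      (∀ u : Fin n → F, (∀ i, u i ∈ F₀) → (hermForm n F q)
        ((P : Matrix (Fin n) (Fin n) F) *ᵥ u) ((P : Matrix (Fin n) (Fin n) F) *ᵥ u) = 0) ∧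
      H = Geo.subfieldSubgroup F₀ P ⊓ SUg n F q) ∨
    (∃ (r : ℕ) (R : Subgroup (Matrix.GeneralLinearGroup (Fin n) F)) (p e k : ℕ),
      Geo.IsSymplecticTypeGroup r R ∧ Geo.ActsAbsolutelyIrreducibly (Geo.matrixSet R) ∧
      R ≤ Geo.similarityGroup (hermForm n F q) ∧ r ≠ p ∧
      Geo.IsMinimalFieldFor (Nat.card (Subgroup.center R)) p e F ∧ Odd r ∧
      Nat.card (Subgroup.center R) = r ∧ 1 ≤ k ∧ Nat.card R = r ^ (1 + 2 * k) ∧ n = r ^ k ∧
      H = Geo.subgroupNormalizer R ⊓ SUg n F q) ∨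
    (∃ (R : Subgroup (Matrix.GeneralLinearGroup (Fin n) F)) (p k : ℕ), p.Prime ∧ q = p ∧ p % 4 = 3 ∧
      Geo.IsSymplecticTypeGroup 2 R ∧ Geo.ActsAbsolutelyIrreducibly (Geo.matrixSet R) ∧
      R ≤ Geo.similarityGroup (hermForm n F q) ∧ Nat.card (Subgroup.center R) = 4 ∧
      Nat.card R = 2 ^ (2 + 2 * k) ∧ n = 2 ^ k ∧ H = Geo.subgroupNormalizer R ⊓ SUg n F q) ∨
    (∃ (r : ℕ) (K : Subalgebra F (Matrix (Fin n) (Fin n) F)), r.Prime ∧ Odd r ∧ r ∣ n ∧
      Geo.IsFieldSubalgebra r K ∧ Geo.IsAdjointClosedFor (hermForm n F q) K ∧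
      H = Geo.subalgebraNormalizer K ⊓ SUg n F q) ∨
    (∃ (n₁ n₂ : ℕ) (e : Fin n ≃ Fin n₁ × Fin n₂) (P : Matrix.GeneralLinearGroup (Fin n) F)
      (f₁ : (Fin n₁ → F) → (Fin n₁ → F) → F) (f₂ : (Fin n₂ → F) → (Fin n₂ → F) → F),
      n₁ * n₂ = n ∧ 2 ≤ n₁ ∧ n₁ < n₂ ∧ Geo.IsUnitaryFormPow q f₁ ∧ Geo.IsUnitaryFormPow q f₂ ∧
      Geo.IsTensorFormStructure (fun x : F => x ^ q) (hermForm n F q) f₁ f₂ e P ∧
      H = Geo.tensorProductSubgroup n₁ n₂ e P ⊓ SUg n F q) ∨
    (∃ (k t : ℕ) (e : Fin n ≃ (Fin t → Fin k)) (P : Matrix.GeneralLinearGroup (Fin n) F)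
      (f₁ : (Fin k → F) → (Fin k → F) → F), k ^ t = n ∧ 3 ≤ k ∧ 2 ≤ t ∧ ¬ (q = 2 ∧ k = 3) ∧
      Geo.IsUnitaryFormPow q f₁ ∧
      Geo.IsTensorPowerFormStructure (fun x : F => x ^ q) (hermForm n F q) f₁ e P ∧
      H = Geo.tensorWreathSubgroup k t e P ⊓ SUg n F q) ∨
    Geo.InUnitaryResidualClass H := by
  have hne : Nonempty (Fin n) := ⟨⟨0, by omega⟩⟩
  have hcard : Fintype.card (Fin n) = n := Fintype.card_fin n
  have hHG : H ≤ Cfsg.GU n F q := hH.1.le.trans inf_le_left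
  -- passing from `M = X ⊓ GU` to `H = X ⊓ SU`
  have key : ∀ {X M : Subgroup (Matrix.GeneralLinearGroup (Fin n) F)}, H ≤ M → M = X ⊓ Cfsg.GU n F q →
      ¬ SUg n F q ≤ X → H = X ⊓ SUg n F q := by
    intro X M hHM hM hX
    exact eq_inf_of_maximal hH (hHM.trans (hM.le.trans inf_le_left)) hX
  rcases h with ⟨M, hM, hHM⟩ | h
  swap
  · iterate 12 right
    exact h
  rcases hM with hM | hM | hM | hM
  · rcases hM with hM | hM | hM | hM | hM | hM | hM | hM
    · -- totally singular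
      obtain ⟨W, hW0, hW, hM⟩ := hM
      left
      refine ⟨W, hW0, hW, key hHM hM (SUg_not_le_subspaceStabilizer hF hn hW0 ?_)⟩
      rintro rfl
      obtain ⟨x, hx⟩ := exists_herm_ne_zero hF (u := (Pi.single ⟨0, by omega⟩ 1 : Fin n → F)) (by
        intro h0
        have := congrFun h0 ⟨0, by omega⟩
        simp at this)
      exact hx (hW _ Submodule.mem_top _ Submodule.mem_top)
    · -- nondegenerate
      obtain ⟨W, hW0, hW, hW2, hM⟩ := hM
      iterate 1 right
      left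
      refine ⟨W, hW0, hW, hW2, key hHM hM (SUg_not_le_subspaceStabilizer hF hn hW0 ?_)⟩
      rintro rfl
      rw [finrank_top, Module.finrank_fintype_fun_eq_card, hcard] at hW2
      omega
    · obtain ⟨t, k, D, hD, hM⟩ := hM
      iterate 2 right
      left
      refine ⟨t, k, D, ?_, hD.decomp.two_le, hD,
        key hHM hM (SUg_not_le_decompositionStabilizer hF hn h32 hD.decomp)⟩
      rw [decomp_card hD.decomp, hcard]
    · obtain ⟨k, D, hk, hD, hs, hM⟩ := hM
      iterate 3 right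
      left
      exact ⟨k, D, hk, hD, hs, key hHM hM (SUg_not_le_decompositionStabilizer hF hn h32 hD)⟩
    · obtain ⟨F₀, r, P, hr, hro, hc, hf, hM⟩ := hM
      iterate 4 right
      left
      exact ⟨F₀, r, P, hr, hro, hc, hf, key hHM hM (SUg_not_le_subfieldSubgroup hF hn h32
        (subfield_ne_top_of_card hF hr.two_le hc) P)⟩
    · obtain ⟨F₀, P, hq, hc, hf, hM⟩ := hM
      iterate 5 right
      left
      exact ⟨F₀, P, hq, hc, hf, key hHM hM (SUg_not_le_subfieldSubgroup hF hn h32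
        (subfield_ne_top_of_card hF le_rfl hc) P)⟩
    · obtain ⟨F₀, P, ζ, hev, hc, hζ0, hζ, hf, hf', hM⟩ := hM
      iterate 6 right
      left
      exact ⟨F₀, P, ζ, hev, hc, hζ0, hζ, hf, hf', key hHM hM (SUg_not_le_subfieldSubgroup hF hn h32
        (subfield_ne_top_of_card hF le_rfl hc) P)⟩
    · obtain ⟨r, R, p, e, k, hR, habs, hRs, hrp, hmin, hc, hM⟩ := hM
      have hsolv : Group.IsSolvable R := by
        have := hR.prime
        have : Fact r.Prime := ⟨this⟩
        have := hR.pGroup.isNilpotent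
        infer_instance
      have hns : ¬ R ≤ Geo.scalars (Fin n) F :=
        not_le_scalars_of_irreducible (by rw [hcard]; omega) habs.1
      have heq := key hHM hM (SUg_not_le_subgroupNormalizer hF hn h32 hRs hsolv hns)
      rcases hc with ⟨hro, hz, hk, hcR⟩ | ⟨rfl, rfl, hz, hcR⟩
      · iterate 7 right
        left
        refine ⟨r, R, p, e, k, hR, habs, hRs, hrp, hmin, hro, hz, hk, hcR, ?_, heq⟩
        rw [← Cfsg.Agent.H921.card_eq_pow_of_center_prime hR habs hz hcR, hcard]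
      · iterate 8 right
        left
        rw [hz] at hmin
        obtain ⟨hp, hqp, hp4⟩ := eq_prime_of_minimal hF hmin
        refine ⟨R, p, k, hp, hqp, hp4, hR, habs, hRs, hz, hcR, ?_, heq⟩
        rw [← Cfsg.Agent.H921.card_eq_pow_of_center_four hR habs hz hcR, hcard]
  · obtain ⟨r, K, hr, hro, hK, hKa, hM⟩ := hM
    iterate 9 right
    left
    refine ⟨r, K, hr, hro, ?_, hK, hKa, key hHM hM
      (SUg_not_le_subalgebraNormalizer hF hn h32 hr.two_le hK)⟩
    have := Cfsg.Agent.H912.finrank_dvd_of_fieldSub hK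
    rwa [hcard] at this
  · obtain ⟨n₁, n₂, e, P, f₁, f₂, h2, hlt, hf₁, hf₂, hf, hM⟩ := hM
    iterate 10 right
    left
    refine ⟨n₁, n₂, e, P, f₁, f₂, ?_, h2, hlt, hf₁, hf₂, hf, key hHM hM
      (SUg_not_le_tensorProductSubgroup hF hn h2 (by omega) e P)⟩
    have := Fintype.card_congr e
    rw [hcard, Fintype.card_prod, Fintype.card_fin, Fintype.card_fin] at this
    exact this.symm
  · obtain ⟨k, t, e, P, f₁, hk, ht, hqk, hf₁, hf, hM⟩ := hM
    have hkt : k ^ t = n := by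
      have := Fintype.card_congr e
      rw [hcard, Fintype.card_fun, Fintype.card_fin, Fintype.card_fin] at this
      exact this.symm
    iterate 11 right
    left
    exact ⟨k, t, e, P, f₁, hkt, hk, ht, hqk, hf₁, hf, key hHM hM (hwr k t e P hk ht hkt)⟩

end Finite

end Cfsg.Agent.H918
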