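import Mathlib
import Cfsg.Agent.H918.TransvTensor
set_option linter.all false

/-!
# Rank-one elements are in no tensor-wreath subgroup with factors of dimension at least three
-/

set_option autoImplicit false
set_option linter.unusedSectionVars false

namespace Cfsg.Agent.H918

open Cfsg
open scoped Matrix MatrixGroups

variable {F : Type*} [Field F] {m t : ℕ}

/-- `g` is a pure tensor times a permutation of the factors. -/
def IsWreathElt (g : Matrix.GeneralLinearGroup (Fin t → Fin m) F) : Prop :=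
  ∃ (gs : Fin t → Matrix.GeneralLinearGroup (Fin m) F) (σ : Equiv.Perm (Fin t)), ∀ x y,
    (g : Matrix (Fin t → Fin m) (Fin t → Fin m) F) x y =
      ∏ i, (gs i : Matrix (Fin m) (Fin m) F) (x i) (y (σ i))

theorem isWreathElt_one : IsWreathElt (1 : Matrix.GeneralLinearGroup (Fin t → Fin m) F) := by
  refine ⟨fun _ => 1, 1, fun x y => ?_⟩
  simp only [Units.val_one, Equiv.Perm.coe_one, id_eq, Matrix.one_apply]
  by_cases h : x = y
  · subst h; simp
  · rw [if_neg h]
    obtain ⟨i, hi⟩ := Function.ne_iff.1 h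
    exact (Finset.prod_eq_zero (Finset.mem_univ i) (if_neg hi)).symm

theorem wreath_mul_apply {g h : Matrix.GeneralLinearGroup (Fin t → Fin m) F}
    {gs hs : Fin t → Matrix.GeneralLinearGroup (Fin m) F} {σ τ : Equiv.Perm (Fin t)}
    (hg : ∀ x y, (g : Matrix (Fin t → Fin m) (Fin t → Fin m) F) x y =
      ∏ i, (gs i : Matrix (Fin m) (Fin m) F) (x i) (y (σ i)))
    (hh : ∀ x y, (h : Matrix (Fin t → Fin m) (Fin t → Fin m) F) x y =
      ∏ i, (hs i : Matrix (Fin m) (Fin m) F) (x i) (y (τ i))) (x z : Fin t → Fin m) :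
    ((g * h : Matrix.GeneralLinearGroup (Fin t → Fin m) F) :
      Matrix (Fin t → Fin m) (Fin t → Fin m) F) x z =
      ∏ i, ((gs i * hs (σ i) : Matrix.GeneralLinearGroup (Fin m) F) : Matrix (Fin m) (Fin m) F)
        (x i) (z (τ (σ i))) := by
  rw [Units.val_mul, Matrix.mul_apply]
  have h1 : ∀ y : Fin t → Fin m, (g : Matrix (Fin t → Fin m) (Fin t → Fin m) F) x y *
      (h : Matrix (Fin t → Fin m) (Fin t → Fin m) F) y z =
      ∏ i, ((gs i : Matrix (Fin m) (Fin m) F) (x i) (y (σ i)) *
        (hs (σ i) : Matrix (Fin m) (Fin m) F) (y (σ i)) (z (τ (σ i)))) := by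
    intro y
    rw [hg, hh, Finset.prod_mul_distrib]
    congr 1
    exact (Equiv.prod_comp σ (fun j => (hs j : Matrix (Fin m) (Fin m) F) (y j) (z (τ j)))).symm
  rw [Finset.sum_congr rfl fun y _ => h1 y]
  -- reindex the sum by `y ↦ y ∘ σ`
  have h2 : ∑ y : Fin t → Fin m, ∏ i, ((gs i : Matrix (Fin m) (Fin m) F) (x i) (y (σ i)) *
        (hs (σ i) : Matrix (Fin m) (Fin m) F) (y (σ i)) (z (τ (σ i)))) =
      ∑ y : Fin t → Fin m, ∏ i, ((gs i : Matrix (Fin m) (Fin m) F) (x i) (y i) *
        (hs (σ i) : Matrix (Fin m) (Fin m) F) (y i) (z (τ (σ i)))) :=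
    Equiv.sum_comp (Equiv.arrowCongr σ.symm (Equiv.refl (Fin m)))
      (fun y => ∏ i, ((gs i : Matrix (Fin m) (Fin m) F) (x i) (y i) *
        (hs (σ i) : Matrix (Fin m) (Fin m) F) (y i) (z (τ (σ i)))))
  rw [h2]
  refine (Fintype.prod_sum (fun i a => (gs i : Matrix (Fin m) (Fin m) F) (x i) a *
    (hs (σ i) : Matrix (Fin m) (Fin m) F) a (z (τ (σ i))))).symm.trans ?_
  refine Finset.prod_congr rfl fun i _ => ?_
  rw [Units.val_mul, Matrix.mul_apply]

theorem IsWreathElt.mul {g h : Matrix.GeneralLinearGroup (Fin t → Fin m) F}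
    (hg : IsWreathElt g) (hh : IsWreathElt h) : IsWreathElt (g * h) := by
  obtain ⟨gs, σ, hg⟩ := hg
  obtain ⟨hs, τ, hh⟩ := hh
  exact ⟨fun i => gs i * hs (σ i), τ * σ, wreath_mul_apply hg hh⟩

theorem IsWreathElt.inv {g : Matrix.GeneralLinearGroup (Fin t → Fin m) F}
    (hg : IsWreathElt g) : IsWreathElt g⁻¹ := by
  obtain ⟨gs, σ, hg⟩ := hg
  -- the explicit inverse
  let N : Matrix (Fin t → Fin m) (Fin t → Fin m) F := fun x y =>
    ∏ i, ((gs (σ⁻¹ i))⁻¹ : Matrix.GeneralLinearGroup (Fin m) F).val (x i) (y (σ⁻¹ i))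
  have hN : (g : Matrix (Fin t → Fin m) (Fin t → Fin m) F) * N = 1 := by
    ext x z
    rw [Matrix.mul_apply]
    have h1 : ∀ y : Fin t → Fin m, (g : Matrix (Fin t → Fin m) (Fin t → Fin m) F) x y * N y z =
        ∏ i, ((gs i : Matrix (Fin m) (Fin m) F) (x i) (y (σ i)) *
          ((gs i)⁻¹ : Matrix.GeneralLinearGroup (Fin m) F).val (y (σ i)) (z i)) := by
      intro y
      rw [hg, Finset.prod_mul_distrib]
      congr 1
      refine (Equiv.prod_comp σ (fun i => ((gs (σ⁻¹ i))⁻¹ : Matrix.GeneralLinearGroup (Fin m) F).val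
        (y i) (z (σ⁻¹ i)))).symm.trans ?_
      refine Finset.prod_congr rfl fun i _ => ?_
      rw [Equiv.Perm.coe_inv, Equiv.symm_apply_apply]
    rw [Finset.sum_congr rfl fun y _ => h1 y]
    have h2 : ∑ y : Fin t → Fin m, ∏ i, ((gs i : Matrix (Fin m) (Fin m) F) (x i) (y (σ i)) *
          ((gs i)⁻¹ : Matrix.GeneralLinearGroup (Fin m) F).val (y (σ i)) (z i)) =
        ∑ y : Fin t → Fin m, ∏ i, ((gs i : Matrix (Fin m) (Fin m) F) (x i) (y i) *
          ((gs i)⁻¹ : Matrix.GeneralLinearGroup (Fin m) F).val (y i) (z i)) :=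
      Equiv.sum_comp (Equiv.arrowCongr σ.symm (Equiv.refl (Fin m)))
        (fun y => ∏ i, ((gs i : Matrix (Fin m) (Fin m) F) (x i) (y i) *
          ((gs i)⁻¹ : Matrix.GeneralLinearGroup (Fin m) F).val (y i) (z i)))
    rw [h2]
    refine (Fintype.prod_sum (fun i a => (gs i : Matrix (Fin m) (Fin m) F) (x i) a *
      ((gs i)⁻¹ : Matrix.GeneralLinearGroup (Fin m) F).val a (z i))).symm.trans ?_
    have h3 : ∀ i, ∑ a, (gs i : Matrix (Fin m) (Fin m) F) (x i) a *
        ((gs i)⁻¹ : Matrix.GeneralLinearGroup (Fin m) F).val a (z i) =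
        if x i = z i then 1 else 0 := by
      intro i
      rw [← Matrix.mul_apply, ← Units.val_mul, mul_inv_cancel, Units.val_one, Matrix.one_apply]
    rw [Finset.prod_congr rfl fun i _ => h3 i, Matrix.one_apply]
    by_cases h : x = z
    · subst h; simp
    · rw [if_neg h]
      obtain ⟨i, hi⟩ := Function.ne_iff.1 h
      exact Finset.prod_eq_zero (Finset.mem_univ i) (if_neg hi)
  have hgN : ((g⁻¹ : Matrix.GeneralLinearGroup (Fin t → Fin m) F) :
      Matrix (Fin t → Fin m) (Fin t → Fin m) F) = N := by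
    calc ((g⁻¹ : Matrix.GeneralLinearGroup (Fin t → Fin m) F) :
        Matrix (Fin t → Fin m) (Fin t → Fin m) F)
        = ((g⁻¹ : Matrix.GeneralLinearGroup (Fin t → Fin m) F) :
        Matrix (Fin t → Fin m) (Fin t → Fin m) F) *
          ((g : Matrix (Fin t → Fin m) (Fin t → Fin m) F) * N) := by rw [hN, mul_one]
      _ = N := by rw [← mul_assoc, ← Units.val_mul, inv_mul_cancel, Units.val_one, one_mul]
  exact ⟨fun i => (gs (σ⁻¹ i))⁻¹, σ⁻¹, fun x y => by rw [hgN]⟩

/-- Every element of the standard tensor-wreath group has the expected form. -/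
theorem isWreathElt_of_mem {g : Matrix.GeneralLinearGroup (Fin t → Fin m) F}
    (hg : g ∈ Geo.tensorWreathStandard m t F) : IsWreathElt g := by
  rw [Geo.tensorWreathStandard] at hg
  induction hg using Subgroup.closure_induction with
  | mem x hx =>
    rcases hx with ⟨gs, h⟩ | ⟨σ, h⟩
    · exact ⟨gs, 1, h⟩
    · refine ⟨fun _ => 1, σ⁻¹, fun x y => ?_⟩
      rw [h]
      by_cases hxy : y = x ∘ σ
      · subst hxy
        simp
      · rw [if_neg hxy]
        obtain ⟨j, hj⟩ := Function.ne_iff.1 hxy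
        refine (Finset.prod_eq_zero (Finset.mem_univ (σ j)) ?_).symm
        rw [Units.val_one, Matrix.one_apply_ne]
        rw [Equiv.Perm.coe_inv, Equiv.symm_apply_apply]
        exact fun h => hj h.symm
  | one => exact isWreathElt_one
  | mul x y _ _ hx hy => exact hx.mul hy
  | inv x _ hx => exact hx.inv

/-- The block of a wreath element in the rows `x_{i₀}` and columns `y_{σ i₀}`. -/
theorem wreath_block {gs : Fin t → Matrix.GeneralLinearGroup (Fin m) F} {σ : Equiv.Perm (Fin t)}
    (x' y' : Fin t → Fin m) (i₀ : Fin t) (a b : Fin m) :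
    ∏ i, (gs i : Matrix (Fin m) (Fin m) F) ((Function.update x' i₀ a) i)
      ((Function.update y' (σ i₀) b) (σ i)) =
    (gs i₀ : Matrix (Fin m) (Fin m) F) a b *
      ∏ i ∈ Finset.univ.erase i₀, (gs i : Matrix (Fin m) (Fin m) F) (x' i) (y' (σ i)) := by
  rw [← Finset.mul_prod_erase Finset.univ _ (Finset.mem_univ i₀), Function.update_self,
    Function.update_self]
  congr 1
  refine Finset.prod_congr rfl fun i hi => ?_
  have hne : i ≠ i₀ := Finset.ne_of_mem_erase hi
  rw [Function.update_of_ne hne, Function.update_of_ne (fun h => hne (σ.injective h))]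

/-- An invertible `m × m` matrix with `m ≥ 3` is not a sum of two matrices of rank at most one. -/
theorem coe_ne_add_vecMulVec (hm : 3 ≤ m) (b : Matrix.GeneralLinearGroup (Fin m) F)
    (U V U' V' : Fin m → F) :
    (b : Matrix (Fin m) (Fin m) F) ≠ Matrix.vecMulVec U V + Matrix.vecMulVec U' V' := by
  intro h
  have h1 : (b : Matrix (Fin m) (Fin m) F).rank = Fintype.card (Fin m) :=
    Matrix.rank_of_isUnit _ b.isUnit
  have h2 := Matrix.rank_vecMulVec_le U V
  have h3 := Matrix.rank_vecMulVec_le U' V'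
  have h4 : (Matrix.vecMulVec U V + Matrix.vecMulVec U' V').rank ≤
      (Matrix.vecMulVec U V).rank + (Matrix.vecMulVec U' V').rank := by
    rw [Matrix.rank, Matrix.rank, Matrix.rank, Matrix.mulVecLin_add]
    exact (Submodule.finrank_mono (LinearMap.range_add_le _ _)).trans
      (Submodule.finrank_add_le_finrank_add_finrank _ _)
  rw [← h, h1, Fintype.card_fin] at h4
  omega

theorem exists_entry_ne_zero (b : Matrix.GeneralLinearGroup (Fin m) F) (i : Fin m) :
    ∃ j, (b : Matrix (Fin m) (Fin m) F) i j ≠ 0 := by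
  by_contra hcon
  push Not at hcon
  have h1 : (b : Matrix (Fin m) (Fin m) F) i = 0 := funext hcon
  have h2 := Matrix.det_eq_zero_of_row_eq_zero (A := (b : Matrix (Fin m) (Fin m) F)) i hcon
  have h3 : IsUnit (b : Matrix (Fin m) (Fin m) F).det := (Matrix.isUnit_iff_isUnit_det _).1 b.isUnit
  rw [h2] at h3
  exact not_isUnit_zero h3

/-- Rank-one elements are not in the standard tensor-wreath group for factors of dimension `≥ 3`. -/
theorem IsRankOneElt.not_mem_tensorWreathStandard (hm : 3 ≤ m) (ht : 2 ≤ t)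
    {g : Matrix.GeneralLinearGroup (Fin t → Fin m) F} (hg : IsRankOneElt g) :
    g ∉ Geo.tensorWreathStandard m t F := by
  intro hmem
  obtain ⟨gs, σ, hgs⟩ := isWreathElt_of_mem hmem
  obtain ⟨u, w, hu, hw, huw⟩ := hg
  have hent : ∀ x y, ∏ i, (gs i : Matrix (Fin m) (Fin m) F) (x i) (y (σ i)) =
      (if x = y then 1 else 0) + u x * w y := by
    intro x y
    rw [← hgs, huw, Matrix.add_apply, Matrix.one_apply, Matrix.vecMulVec_apply]
  -- nonzero entries
  choose f hf using fun (i : Fin t) (a : Fin m) => exists_entry_ne_zero (gs i) a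
  -- the permutation is trivial
  have hσ : ∀ i₀, σ i₀ = i₀ := by
    intro i₀
    by_contra hne
    let x' : Fin t → Fin m := fun _ => ⟨0, by omega⟩
    let y' : Fin t → Fin m := fun j => f (σ.symm j) (x' (σ.symm j))
    have hc : ∏ i ∈ Finset.univ.erase i₀, (gs i : Matrix (Fin m) (Fin m) F) (x' i) (y' (σ i)) ≠ 0 := by
      rw [Finset.prod_ne_zero_iff]
      intro i _
      simp only [y', Equiv.symm_apply_apply]
      exact hf i (x' i)
    set c := ∏ i ∈ Finset.univ.erase i₀, (gs i : Matrix (Fin m) (Fin m) F) (x' i) (y' (σ i)) with hcdef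
    let ε : F := if (∀ k, k ≠ i₀ → k ≠ σ i₀ → x' k = y' k) then 1 else 0
    apply coe_ne_add_vecMulVec hm (gs i₀)
      (fun a => c⁻¹ * (if a = y' i₀ then ε else 0)) (fun b => if b = x' (σ i₀) then 1 else 0)
      (fun a => c⁻¹ * u (Function.update x' i₀ a)) (fun b => w (Function.update y' (σ i₀) b))
    ext a b
    have h1 := hent (Function.update x' i₀ a) (Function.update y' (σ i₀) b)
    rw [wreath_block, ← hcdef] at h1
    rw [Matrix.add_apply, Matrix.vecMulVec_apply, Matrix.vecMulVec_apply, mul_assoc, mul_assoc,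
      ← mul_add]
    have h2 : (if Function.update x' i₀ a = Function.update y' (σ i₀) b then (1 : F) else 0) =
        (if a = y' i₀ then ε else 0) * (if b = x' (σ i₀) then 1 else 0) := by
      by_cases hcond : a = y' i₀ ∧ b = x' (σ i₀) ∧ (∀ k, k ≠ i₀ → k ≠ σ i₀ → x' k = y' k)
      · obtain ⟨rfl, rfl, h3⟩ := hcond
        rw [if_pos rfl, if_pos rfl, mul_one]
        simp only [ε]
        rw [if_pos h3, if_pos]
        funext k
        by_cases hk : k = i₀
        · subst hk
          rw [Function.update_self, Function.update_of_ne (Ne.symm hne)]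
        · rw [Function.update_of_ne hk]
          by_cases hk' : k = σ i₀
          · subst hk'
            rw [Function.update_self]
          · rw [Function.update_of_ne hk', h3 k hk hk']
      · have h4 : (if a = y' i₀ then ε else 0) * (if b = x' (σ i₀) then (1 : F) else 0) = 0 := by
          by_cases h5 : a = y' i₀
          · by_cases h6 : b = x' (σ i₀)
            · have h7 : ¬ (∀ k, k ≠ i₀ → k ≠ σ i₀ → x' k = y' k) := fun h7 => hcond ⟨h5, h6, h7⟩
              rw [if_pos h5]
              simp only [ε]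
              rw [if_neg h7, zero_mul]
            · rw [if_neg h6, mul_zero]
          · rw [if_neg h5, zero_mul]
        rw [h4, if_neg]
        intro h8
        apply hcond
        refine ⟨?_, ?_, ?_⟩
        · have := congrFun h8 i₀
          rwa [Function.update_self, Function.update_of_ne (Ne.symm hne)] at this
        · have := congrFun h8 (σ i₀)
          rw [Function.update_self, Function.update_of_ne hne] at this
          exact this.symm
        · intro k hk hk'
          have := congrFun h8 k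
          rwa [Function.update_of_ne hk, Function.update_of_ne hk'] at this
    rw [← h2, ← h1]
    field_simp
  have hσ1 : σ = 1 := Equiv.ext hσ
  subst hσ1
  simp only [Equiv.Perm.coe_one, id_eq] at hent
  -- all factors are diagonal
  have hdiag : ∀ i a b, a ≠ b → (gs i : Matrix (Fin m) (Fin m) F) a b = 0 := by
    intro i a b hab
    by_contra hne
    obtain ⟨i₀, hi₀⟩ : ∃ i₀ : Fin t, i₀ ≠ i := by
      have : Nontrivial (Fin t) := Fin.nontrivial_iff_two_le.2 ht
      exact exists_ne i
    let x' : Fin t → Fin m := fun _ => a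
    let y' : Fin t → Fin m := Function.update (fun j => f j a) i b
    have hc : ∏ j ∈ Finset.univ.erase i₀, (gs j : Matrix (Fin m) (Fin m) F) (x' j) (y' j) ≠ 0 := by
      rw [Finset.prod_ne_zero_iff]
      intro j _
      by_cases hj : j = i
      · subst hj
        simp only [y', x', Function.update_self]
        exact hne
      · simp only [y', x', Function.update_of_ne hj]
        exact hf j a
    set c := ∏ j ∈ Finset.univ.erase i₀, (gs j : Matrix (Fin m) (Fin m) F) (x' j) (y' j) with hcdef
    apply coe_ne_vecMulVec (by omega) (gs i₀)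
      (fun a => c⁻¹ * u (Function.update x' i₀ a)) (fun b => w (Function.update y' i₀ b))
    ext a' b'
    have h1 := hent (Function.update x' i₀ a') (Function.update y' i₀ b')
    have h2 := wreath_block (gs := gs) (σ := 1) x' y' i₀ a' b'
    simp only [Equiv.Perm.coe_one, id_eq] at h2
    rw [h2, ← hcdef, if_neg, zero_add] at h1
    · rw [Matrix.vecMulVec_apply, mul_assoc, ← h1]
      field_simp
    · intro h3
      have := congrFun h3 i
      rw [Function.update_of_ne (Ne.symm hi₀), Function.update_of_ne (Ne.symm hi₀)] at this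
      simp only [x', y', Function.update_self] at this
      exact hab this
  -- the off-diagonal entries of `u wᵀ` vanish
  have hoff : ∀ x y, x ≠ y → u x * w y = 0 := by
    intro x y hxy
    have h1 := hent x y
    rw [if_neg hxy, zero_add] at h1
    rw [← h1]
    obtain ⟨i, hi⟩ := Function.ne_iff.1 hxy
    exact Finset.prod_eq_zero (Finset.mem_univ i) (hdiag i _ _ hi)
  obtain ⟨x₀, hx₀⟩ := Function.ne_iff.1 hu
  obtain ⟨y₀, hy₀⟩ := Function.ne_iff.1 hw
  have hw' : ∀ y, x₀ ≠ y → w y = 0 := fun y hy => (mul_eq_zero.1 (hoff x₀ y hy)).resolve_left hx₀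
  have hxy : x₀ = y₀ := by
    by_contra hne
    exact hy₀ (hw' y₀ hne)
  subst hxy
  have hval : ∀ x, x ≠ x₀ → ∏ i, (gs i : Matrix (Fin m) (Fin m) F) (x i) (x i) = 1 := by
    intro x hx
    rw [hent x x, if_pos rfl, hw' x hx.symm, mul_zero, add_zero]
  -- change one or two coordinates
  let i : Fin t := ⟨0, by omega⟩
  let j : Fin t := ⟨1, by omega⟩
  have hij : i ≠ j := by simp [i, j]
  obtain ⟨a, ha⟩ : ∃ a : Fin m, a ≠ x₀ i := by
    have : Nontrivial (Fin m) := Fin.nontrivial_iff_two_le.2 (by omega)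
    exact exists_ne _
  obtain ⟨b, hb⟩ : ∃ b : Fin m, b ≠ x₀ j := by
    have : Nontrivial (Fin m) := Fin.nontrivial_iff_two_le.2 (by omega)
    exact exists_ne _
  have hsplit : ∀ x : Fin t → Fin m, ∏ k, (gs k : Matrix (Fin m) (Fin m) F) (x k) (x k) =
      (gs i : Matrix (Fin m) (Fin m) F) (x i) (x i) * ((gs j : Matrix (Fin m) (Fin m) F) (x j) (x j) *
        ∏ k ∈ (Finset.univ.erase i).erase j, (gs k : Matrix (Fin m) (Fin m) F) (x k) (x k)) := by
    intro x
    rw [← Finset.mul_prod_erase Finset.univ _ (Finset.mem_univ i),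
      ← Finset.mul_prod_erase (Finset.univ.erase i) _
        (Finset.mem_erase.2 ⟨hij.symm, Finset.mem_univ j⟩)]
  have hrest : ∀ x : Fin t → Fin m, (∀ k, k ≠ i → k ≠ j → x k = x₀ k) →
      ∏ k ∈ (Finset.univ.erase i).erase j, (gs k : Matrix (Fin m) (Fin m) F) (x k) (x k) =
      ∏ k ∈ (Finset.univ.erase i).erase j, (gs k : Matrix (Fin m) (Fin m) F) (x₀ k) (x₀ k) := by
    intro x hx
    refine Finset.prod_congr rfl fun k hk => ?_
    rw [Finset.mem_erase, Finset.mem_erase] at hk
    rw [hx k hk.2.1 hk.1]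
  set R := ∏ k ∈ (Finset.univ.erase i).erase j, (gs k : Matrix (Fin m) (Fin m) F) (x₀ k) (x₀ k) with hR
  have e1 := hval (Function.update x₀ i a) (by
    intro h
    have := congrFun h i
    rw [Function.update_self] at this
    exact ha this)
  have e2 := hval (Function.update x₀ j b) (by
    intro h
    have := congrFun h j
    rw [Function.update_self] at this
    exact hb this)
  have e3 := hval (Function.update (Function.update x₀ i a) j b) (by
    intro h
    have := congrFun h j
    rw [Function.update_self] at this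
    exact hb this)
  rw [hsplit, hrest _ (fun k hk _ => Function.update_of_ne hk _ _), Function.update_self,
    Function.update_of_ne hij.symm] at e1
  rw [hsplit, hrest _ (fun k _ hk => Function.update_of_ne hk _ _), Function.update_self,
    Function.update_of_ne hij] at e2
  rw [hsplit, hrest _ (fun k hk hk' => by
    rw [Function.update_of_ne hk', Function.update_of_ne hk]), Function.update_self,
    Function.update_of_ne hij, Function.update_self] at e3
  have e4 := hent x₀ x₀
  rw [if_pos rfl, hsplit] at e4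
  set A := (gs i : Matrix (Fin m) (Fin m) F) a a
  set A₀ := (gs i : Matrix (Fin m) (Fin m) F) (x₀ i) (x₀ i)
  set B := (gs j : Matrix (Fin m) (Fin m) F) b b
  set B₀ := (gs j : Matrix (Fin m) (Fin m) F) (x₀ j) (x₀ j)
  have e5 : A₀ * (B₀ * R) = 1 := by
    calc A₀ * (B₀ * R) = (A₀ * (B₀ * R)) * (A * (B * R)) := by rw [e3, mul_one]
      _ = (A * (B₀ * R)) * (A₀ * (B * R)) := by ring
      _ = 1 := by rw [e1, e2, mul_one]
  have e6 : u x₀ * w x₀ = 0 := by linear_combination e5 - e4
  exact (mul_ne_zero hx₀ hy₀) e6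

/-- Rank-one elements are in no tensor-wreath subgroup, `m ≥ 3`, `t ≥ 2`. -/
theorem IsRankOneElt.not_mem_tensorWreathSubgroup {ι : Type} [Fintype ι] [DecidableEq ι]
    {g : Matrix.GeneralLinearGroup ι F} (hg : IsRankOneElt g) (hm : 3 ≤ m) (ht : 2 ≤ t)
    (e : ι ≃ (Fin t → Fin m)) (P : Matrix.GeneralLinearGroup ι F) :
    g ∉ Geo.tensorWreathSubgroup m t e P := by
  rintro ⟨g', ⟨k, hk, rfl⟩, rfl⟩
  have h1 := hg.conj P⁻¹
  have h2 : P⁻¹ * ((MulAut.conj P).toMonoidHom ((Geo.glReindex e.symm).toMonoidHom k)) * P⁻¹⁻¹ =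
      Geo.glReindex e.symm k := by
    simp only [MulEquiv.coe_toMonoidHom, MulAut.conj_apply]
    group
  rw [h2] at h1
  obtain ⟨u, w, hu, hw, h⟩ := h1
  refine IsRankOneElt.not_mem_tensorWreathStandard hm ht (g := k) ?_ hk
  refine ⟨u ∘ e.symm, w ∘ e.symm, ?_, ?_, ?_⟩
  · intro h0
    apply hu
    funext i
    have := congrFun h0 (e i)
    simpa using this
  · intro h0
    apply hw
    funext i
    have := congrFun h0 (e i)
    simpa using this
  · have h3 : (k : Matrix (Fin t → Fin m) (Fin t → Fin m) F) =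
        Matrix.reindex e e ((Geo.glReindex e.symm k : Matrix.GeneralLinearGroup ι F) : Matrix ι ι F) := by
      ext i j
      simp [Geo.glReindex]
    rw [h3, h]
    ext i j
    simp [Matrix.vecMulVec_apply, Matrix.one_apply]

theorem not_le_tensorWreathSubgroup {ι : Type} [Fintype ι] [DecidableEq ι]
    {G : Subgroup (Matrix.GeneralLinearGroup ι F)} {g : Matrix.GeneralLinearGroup ι F}
    (hgG : g ∈ G) (hg : IsRankOneElt g) (hm : 3 ≤ m) (ht : 2 ≤ t)
    (e : ι ≃ (Fin t → Fin m)) (P : Matrix.GeneralLinearGroup ι F) :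
    ¬ G ≤ Geo.tensorWreathSubgroup m t e P :=
  fun hle => hg.not_mem_tensorWreathSubgroup hm ht e P (hle hgG)

end Cfsg.Agent.H918
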