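import Mathlib
import Cfsg.Agent.H918.URed
import Cfsg.Agent.H918.UProper
set_option linter.all false

-- part: H918/PairBase
section
/-!
# Overgroups of the stabiliser of a pair of totally isotropic subspaces in `SU_n(q)`: basics

Siegel elements `x ↦ x + h(x, b) a - h(x, a) b`, transvections, subspace bookkeeping.
-/

set_option autoImplicit false
set_option linter.unusedSectionVars false

namespace Cfsg.Agent.H918.Pair

open Cfsg Cfsg.Agent.LieClassical.HermBasic Cfsg.Agent.H918
open scoped Matrix MatrixGroups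

variable {F : Type*} [Field F] {n q : ℕ}

/-- `X` contains the Siegel element of `a`, `b`. -/
def HasS (q : ℕ) (X : Subgroup (Matrix.GeneralLinearGroup (Fin n) F)) (a b : Fin n → F) : Prop :=
  ∃ g ∈ X, ∀ x : Fin n → F, (g : Matrix (Fin n) (Fin n) F) *ᵥ x =
    x + hermForm n F q x b • a - hermForm n F q x a • b

/-- `X` contains the transvection with centre `v` and parameter `c`. -/
def HasT (q : ℕ) (X : Subgroup (Matrix.GeneralLinearGroup (Fin n) F)) (v : Fin n → F) (c : F) : Prop :=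
  ∃ g ∈ X, ∀ x : Fin n → F, (g : Matrix (Fin n) (Fin n) F) *ᵥ x =
    x + (c * hermForm n F q x v) • v

/-- Image of a subspace under a matrix. -/
def gm (g : Matrix.GeneralLinearGroup (Fin n) F) (A : Submodule F (Fin n → F)) :
    Submodule F (Fin n → F) := A.map (Matrix.toLin' (g : Matrix (Fin n) (Fin n) F))

theorem inv_mulVec_mulVec (g : Matrix.GeneralLinearGroup (Fin n) F) (x : Fin n → F) :
    ((g⁻¹ : Matrix.GeneralLinearGroup (Fin n) F) : Matrix (Fin n) (Fin n) F) *ᵥ
      ((g : Matrix (Fin n) (Fin n) F) *ᵥ x) = x := by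
  rw [Matrix.mulVec_mulVec, ← Units.val_mul, inv_mul_cancel, Units.val_one, Matrix.one_mulVec]

theorem mulVec_inv_mulVec (g : Matrix.GeneralLinearGroup (Fin n) F) (x : Fin n → F) :
    (g : Matrix (Fin n) (Fin n) F) *ᵥ
      (((g⁻¹ : Matrix.GeneralLinearGroup (Fin n) F) : Matrix (Fin n) (Fin n) F) *ᵥ x) = x := by
  rw [Matrix.mulVec_mulVec, ← Units.val_mul, mul_inv_cancel, Units.val_one, Matrix.one_mulVec]

theorem mul_mulVec (g h : Matrix.GeneralLinearGroup (Fin n) F) (x : Fin n → F) :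
    ((g * h : Matrix.GeneralLinearGroup (Fin n) F) : Matrix (Fin n) (Fin n) F) *ᵥ x =
      (g : Matrix (Fin n) (Fin n) F) *ᵥ ((h : Matrix (Fin n) (Fin n) F) *ᵥ x) := by
  rw [Matrix.mulVec_mulVec, ← Units.val_mul]

theorem mulVec_inj (g : Matrix.GeneralLinearGroup (Fin n) F) {x y : Fin n → F}
    (h : (g : Matrix (Fin n) (Fin n) F) *ᵥ x = (g : Matrix (Fin n) (Fin n) F) *ᵥ y) : x = y := by
  rw [← inv_mulVec_mulVec g x, h, inv_mulVec_mulVec]

theorem mem_gm {g : Matrix.GeneralLinearGroup (Fin n) F} {A : Submodule F (Fin n → F)}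
    {x : Fin n → F} : x ∈ gm g A ↔ ∃ y ∈ A, (g : Matrix (Fin n) (Fin n) F) *ᵥ y = x := by
  rw [gm, Submodule.mem_map]
  simp only [Matrix.toLin'_apply]

theorem mulVec_mem_gm {g : Matrix.GeneralLinearGroup (Fin n) F} {A : Submodule F (Fin n → F)}
    {x : Fin n → F} (hx : x ∈ A) : (g : Matrix (Fin n) (Fin n) F) *ᵥ x ∈ gm g A :=
  mem_gm.2 ⟨x, hx, rfl⟩

theorem mulVec_mem_gm_iff {g : Matrix.GeneralLinearGroup (Fin n) F} {A : Submodule F (Fin n → F)}
    {x : Fin n → F} : (g : Matrix (Fin n) (Fin n) F) *ᵥ x ∈ gm g A ↔ x ∈ A := by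
  constructor
  · intro h
    obtain ⟨y, hy, hyx⟩ := mem_gm.1 h
    rwa [← mulVec_inj g hyx]
  · exact mulVec_mem_gm

theorem gm_mul (g h : Matrix.GeneralLinearGroup (Fin n) F) (A : Submodule F (Fin n → F)) :
    gm (g * h) A = gm g (gm h A) := by
  ext x
  constructor
  · intro hx
    obtain ⟨y, hy, rfl⟩ := mem_gm.1 hx
    rw [mul_mulVec]
    exact mulVec_mem_gm (mulVec_mem_gm hy)
  · intro hx
    obtain ⟨y, hy, rfl⟩ := mem_gm.1 hx
    obtain ⟨z, hz, rfl⟩ := mem_gm.1 hy
    rw [← mul_mulVec]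
    exact mulVec_mem_gm hz

theorem gm_one (A : Submodule F (Fin n → F)) : gm 1 A = A := by
  ext x
  rw [mem_gm]
  constructor
  · rintro ⟨y, hy, rfl⟩
    simpa using hy
  · intro hx
    exact ⟨x, hx, by simp⟩

theorem gm_inv_gm (g : Matrix.GeneralLinearGroup (Fin n) F) (A : Submodule F (Fin n → F)) :
    gm g⁻¹ (gm g A) = A := by
  rw [← gm_mul, inv_mul_cancel, gm_one]

theorem gm_gm_inv (g : Matrix.GeneralLinearGroup (Fin n) F) (A : Submodule F (Fin n → F)) :
    gm g (gm g⁻¹ A) = A := by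
  rw [← gm_mul, mul_inv_cancel, gm_one]

theorem gm_injective (g : Matrix.GeneralLinearGroup (Fin n) F) {A B : Submodule F (Fin n → F)}
    (h : gm g A = gm g B) : A = B := by
  rw [← gm_inv_gm g A, h, gm_inv_gm]

theorem gm_mono (g : Matrix.GeneralLinearGroup (Fin n) F) {A B : Submodule F (Fin n → F)}
    (h : A ≤ B) : gm g A ≤ gm g B := Submodule.map_mono h

theorem finrank_gm (g : Matrix.GeneralLinearGroup (Fin n) F) (A : Submodule F (Fin n → F)) :
    Module.finrank F (gm g A) = Module.finrank F A := by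
  apply le_antisymm
  · exact Submodule.finrank_map_le _ _
  · have h := Submodule.finrank_map_le
      (Matrix.toLin' ((g⁻¹ : Matrix.GeneralLinearGroup (Fin n) F) : Matrix (Fin n) (Fin n) F)) (gm g A)
    have h2 : (gm g A).map (Matrix.toLin'
        ((g⁻¹ : Matrix.GeneralLinearGroup (Fin n) F) : Matrix (Fin n) (Fin n) F)) = A :=
      gm_inv_gm g A
    rwa [h2] at h

theorem gm_sup (g : Matrix.GeneralLinearGroup (Fin n) F) (A B : Submodule F (Fin n → F)) :
    gm g (A ⊔ B) = gm g A ⊔ gm g B := Submodule.map_sup _ _ _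

theorem gm_inf (g : Matrix.GeneralLinearGroup (Fin n) F) (A B : Submodule F (Fin n → F)) :
    gm g (A ⊓ B) = gm g A ⊓ gm g B := by
  apply le_antisymm
  · exact le_inf (gm_mono g inf_le_left) (gm_mono g inf_le_right)
  · intro x hx
    obtain ⟨h1, h2⟩ := Submodule.mem_inf.1 hx
    obtain ⟨y, hy, rfl⟩ := mem_gm.1 h1
    exact mulVec_mem_gm (Submodule.mem_inf.2 ⟨hy, mulVec_mem_gm_iff.1 h2⟩)

theorem gm_top (g : Matrix.GeneralLinearGroup (Fin n) F) :
    gm g (⊤ : Submodule F (Fin n → F)) = ⊤ := by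
  rw [eq_top_iff]
  intro x _
  exact mem_gm.2 ⟨_, Submodule.mem_top, mulVec_inv_mulVec g x⟩

theorem gm_bot (g : Matrix.GeneralLinearGroup (Fin n) F) :
    gm g (⊥ : Submodule F (Fin n → F)) = ⊥ := Submodule.map_bot _

/-- An element mapping `A` into `A` maps `A` onto `A`. -/
theorem gm_eq_of_mulVec_mem {g : Matrix.GeneralLinearGroup (Fin n) F}
    {A : Submodule F (Fin n → F)} (h : ∀ x ∈ A, (g : Matrix (Fin n) (Fin n) F) *ᵥ x ∈ A) :
    gm g A = A := by
  apply Submodule.eq_of_le_of_finrank_eq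
  · intro x hx
    obtain ⟨y, hy, rfl⟩ := mem_gm.1 hx
    exact h y hy
  · exact finrank_gm g A

section

variable [Fintype F] (hF : Fintype.card F = q ^ 2)
include hF

theorem HasT.tv_mem {X : Subgroup (Matrix.GeneralLinearGroup (Fin n) F)} {v : Fin n → F} {c : F}
    (h : HasT q X v c) (hv : hermForm n F q v v = 0) (hc : c + c ^ q = 0) : tv hF v c hv hc ∈ X := by
  obtain ⟨g, hg, hx⟩ := h
  have : tv hF v c hv hc = g := by
    apply Units.ext
    apply Matrix.mulVec_injective
    funext x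
    rw [tv_mulVec, hx]
  rwa [this]

omit hF in
theorem HasT.conj {X : Subgroup (Matrix.GeneralLinearGroup (Fin n) F)} {v : Fin n → F} {c : F}
    (h : HasT q X v c) {g : Matrix.GeneralLinearGroup (Fin n) F} (hg : g ∈ X)
    (hgu : g ∈ Cfsg.GU n F q) : HasT q X ((g : Matrix (Fin n) (Fin n) F) *ᵥ v) c := by
  obtain ⟨t, ht, hx⟩ := h
  refine ⟨g * t * g⁻¹, X.mul_mem (X.mul_mem hg ht) (X.inv_mem hg), fun x => ?_⟩
  rw [mul_mulVec, mul_mulVec, hx, Matrix.mulVec_add, Matrix.mulVec_smul, mulVec_inv_mulVec]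
  have : hermForm n F q x ((g : Matrix (Fin n) (Fin n) F) *ᵥ v) =
      hermForm n F q (((g⁻¹ : Matrix.GeneralLinearGroup (Fin n) F) : Matrix (Fin n) (Fin n) F) *ᵥ x) v := by
    rw [← mem_GU.1 hgu (((g⁻¹ : Matrix.GeneralLinearGroup (Fin n) F) : Matrix (Fin n) (Fin n) F) *ᵥ x) v,
      mulVec_inv_mulVec]
  rw [this]

omit hF in
theorem HasS.conj {X : Subgroup (Matrix.GeneralLinearGroup (Fin n) F)} {a b : Fin n → F}
    (h : HasS q X a b) {g : Matrix.GeneralLinearGroup (Fin n) F} (hg : g ∈ X)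
    (hgu : g ∈ Cfsg.GU n F q) : HasS q X ((g : Matrix (Fin n) (Fin n) F) *ᵥ a)
      ((g : Matrix (Fin n) (Fin n) F) *ᵥ b) := by
  obtain ⟨t, ht, hx⟩ := h
  refine ⟨g * t * g⁻¹, X.mul_mem (X.mul_mem hg ht) (X.inv_mem hg), fun x => ?_⟩
  rw [mul_mulVec, mul_mulVec, hx, Matrix.mulVec_sub, Matrix.mulVec_add, Matrix.mulVec_smul,
    Matrix.mulVec_smul, mulVec_inv_mulVec]
  have : ∀ v, hermForm n F q x ((g : Matrix (Fin n) (Fin n) F) *ᵥ v) =
      hermForm n F q (((g⁻¹ : Matrix.GeneralLinearGroup (Fin n) F) : Matrix (Fin n) (Fin n) F) *ᵥ x) v := by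
    intro v
    rw [← mem_GU.1 hgu (((g⁻¹ : Matrix.GeneralLinearGroup (Fin n) F) : Matrix (Fin n) (Fin n) F) *ᵥ x) v,
      mulVec_inv_mulVec]
  rw [this, this]

theorem inv_pow_of_trace {c : F} (hc : c + c ^ q = 0) : (c⁻¹) ^ q = -c⁻¹ := by
  have h : c ^ q = -c := by linear_combination hc
  rw [inv_pow, h, inv_neg]

/-- Siegel elements exist in `SU_n(q)`. -/
theorem hasS_SUg {a b : Fin n → F} (haa : hermForm n F q a a = 0) (hbb : hermForm n F q b b = 0)
    (hab : hermForm n F q a b = 0) : HasS q (SUg n F q) a b := by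
  obtain ⟨c, hc0, hc⟩ := exists_trace_zero_ne hF
  have hba : hermForm n F q b a = 0 := herm_eq_zero_swap hF hab
  have hcq : c ^ q = -c := by linear_combination hc
  have hci : (c⁻¹) ^ q = -c⁻¹ := inv_pow_of_trace hF hc
  have h1 : hermForm n F q (a + (-c⁻¹) • b) (a + (-c⁻¹) • b) = 0 := by
    rw [herm_add_left, herm_add_right hF, herm_add_right hF, herm_smul_left, herm_smul_left,
      herm_smul_right, herm_smul_right, haa, hbb, hab, hba]
    ring
  have h2 : (-c) + (-c) ^ q = 0 := by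
    rw [neg_pow_q hF, hcq]; ring
  have h3 : c⁻¹ + c⁻¹ ^ q = 0 := by rw [hci]; ring
  refine ⟨tv hF _ c h1 hc * (tv hF a (-c) haa h2 * tv hF b c⁻¹ hbb h3),
    Subgroup.mul_mem _ (tv_mem hF _ _) (Subgroup.mul_mem _ (tv_mem hF _ _) (tv_mem hF _ _)),
    fun x => ?_⟩
  rw [mul_mulVec, mul_mulVec, tv_mulVec, tv_mulVec, tv_mulVec]
  simp only [herm_add_left, herm_add_right hF, herm_smul_left, herm_smul_right, haa, hbb, hab, hba,
    neg_pow_q hF, hci, mul_zero, add_zero]
  funext i
  simp only [Pi.add_apply, Pi.sub_apply, Pi.smul_apply, smul_eq_mul]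
  field_simp
  ring

end

end Cfsg.Agent.H918.Pair
end

-- part: H918/PairGood
section
/-!
# Overgroups of the stabiliser of a pair of totally isotropic subspaces in `SU_n(q)`: good pairs

`Good q k X A A'`: `A`, `A'` are complementary totally isotropic subspaces of dimension `k` such that `X`
contains all Siegel elements of `a ∈ A`, `b ∈ A'`, `h(a, b) = 0`.
-/

set_option autoImplicit false
set_option linter.unusedSectionVars false

namespace Cfsg.Agent.H918.Pair

open Cfsg Cfsg.Agent.LieClassical.HermBasic Cfsg.Agent.H918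
open scoped Matrix MatrixGroups

variable {F : Type*} [Field F] {n q : ℕ}

/-- Complementary totally isotropic subspaces with all their Siegel elements in `X`. -/
structure Good (q k : ℕ) (X : Subgroup (Matrix.GeneralLinearGroup (Fin n) F))
    (A A' : Submodule F (Fin n → F)) : Prop where
  ti : ∀ x ∈ A, ∀ y ∈ A, hermForm n F q x y = 0
  ti' : ∀ x ∈ A', ∀ y ∈ A', hermForm n F q x y = 0
  sup : A ⊔ A' = ⊤
  inf : A ⊓ A' = ⊥
  rk : Module.finrank F A = k
  rk' : Module.finrank F A' = k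
  sg : ∀ a ∈ A, ∀ b ∈ A', hermForm n F q a b = 0 → HasS q X a b

/-- The linear map `x ↦ h(x, v)`. -/
def hl (q : ℕ) (v : Fin n → F) : (Fin n → F) →ₗ[F] F where
  toFun x := hermForm n F q x v
  map_add' x y := herm_add_left x y v
  map_smul' c x := herm_smul_left c x v

theorem hl_apply (v x : Fin n → F) : hl q v x = hermForm n F q x v := rfl

/-- The vectors orthogonal to `v`. -/
def vp (q : ℕ) (v : Fin n → F) : Submodule F (Fin n → F) := LinearMap.ker (hl q v)

theorem mem_vp {v x : Fin n → F} : x ∈ vp q v ↔ hermForm n F q x v = 0 := LinearMap.mem_ker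

theorem finrank_le_inf_vp (S : Submodule F (Fin n → F)) (v : Fin n → F) :
    Module.finrank F S ≤ Module.finrank F (S ⊓ vp q v : Submodule F (Fin n → F)) + 1 := by
  let φ : S →ₗ[F] F := (hl q v).comp S.subtype
  have h1 := LinearMap.finrank_range_add_finrank_ker φ
  have h2 : Module.finrank F (LinearMap.range φ) ≤ 1 := by
    refine (Submodule.finrank_le _).trans ?_
    rw [Module.finrank_self]
  have h3 : Module.finrank F (LinearMap.ker φ) ≤
      Module.finrank F (S ⊓ vp q v : Submodule F (Fin n → F)) := by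
    have h4 : (LinearMap.ker φ).map S.subtype ≤ S ⊓ vp q v := by
      rintro _ ⟨x, hx, rfl⟩
      refine Submodule.mem_inf.2 ⟨x.2, ?_⟩
      rw [mem_vp]
      exact hx
    rw [← Submodule.finrank_map_subtype_eq]
    exact Submodule.finrank_mono h4
  omega

theorem exists_indep {S : Submodule F (Fin n → F)} (h : 2 ≤ Module.finrank F S) :
    ∃ b ∈ S, b ≠ 0 ∧ ∃ c ∈ S, c ∉ Submodule.span F {b} := by
  have h0 : S ≠ ⊥ := by
    rintro rfl
    rw [finrank_bot] at h
    omega
  obtain ⟨b, hb, hb0⟩ := Submodule.exists_mem_ne_zero_of_ne_bot h0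
  refine ⟨b, hb, hb0, ?_⟩
  by_contra hcon
  push Not at hcon
  have h1 : S ≤ Submodule.span F {b} := hcon
  have h2 := Submodule.finrank_mono h1
  rw [finrank_span_singleton hb0] at h2
  omega

section

variable [Fintype F] (hF : Fintype.card F = q ^ 2)
include hF

variable {k : ℕ} {X : Subgroup (Matrix.GeneralLinearGroup (Fin n) F)}
  {A A' : Submodule F (Fin n → F)}

theorem Good.symm (G : Good q k X A A') : Good q k X A' A := by
  refine ⟨G.ti', G.ti, by rw [sup_comm]; exact G.sup, by rw [inf_comm]; exact G.inf, G.rk', G.rk,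
    fun a ha b hb hab => ?_⟩
  obtain ⟨g, hg, hx⟩ := G.sg b hb (-a) (A'.neg_mem ha) (by
    rw [herm_neg_right hF, herm_eq_zero_swap hF hab, neg_zero])
  refine ⟨g, hg, fun x => ?_⟩
  rw [hx, herm_neg_right hF]
  funext i
  simp only [Pi.add_apply, Pi.sub_apply, Pi.smul_apply, Pi.neg_apply, smul_eq_mul]
  ring

theorem Good.conj (G : Good q k X A A') (hX : X ≤ SUg n F q)
    {g : Matrix.GeneralLinearGroup (Fin n) F} (hg : g ∈ X) : Good q k X (gm g A) (gm g A') := by
  have hgu : g ∈ Cfsg.GU n F q := (Subgroup.mem_inf.1 (hX hg)).1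
  have hiso := mem_GU.1 hgu
  refine ⟨?_, ?_, ?_, ?_, ?_, ?_, ?_⟩
  · intro x hx y hy
    obtain ⟨x', hx', rfl⟩ := mem_gm.1 hx
    obtain ⟨y', hy', rfl⟩ := mem_gm.1 hy
    rw [hiso]
    exact G.ti x' hx' y' hy'
  · intro x hx y hy
    obtain ⟨x', hx', rfl⟩ := mem_gm.1 hx
    obtain ⟨y', hy', rfl⟩ := mem_gm.1 hy
    rw [hiso]
    exact G.ti' x' hx' y' hy'
  · rw [← gm_sup, G.sup, gm_top]
  · rw [← gm_inf, G.inf, gm_bot]
  · rw [finrank_gm, G.rk]
  · rw [finrank_gm, G.rk']
  · intro x hx y hy hxy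
    obtain ⟨x', hx', rfl⟩ := mem_gm.1 hx
    obtain ⟨y', hy', rfl⟩ := mem_gm.1 hy
    rw [hiso] at hxy
    exact (G.sg x' hx' y' hy' hxy).conj hg hgu

omit hF in
theorem Good.decomp (G : Good q k X A A') (x : Fin n → F) : ∃ a ∈ A, ∃ b ∈ A', a + b = x := by
  have : x ∈ A ⊔ A' := by rw [G.sup]; exact Submodule.mem_top
  exact Submodule.mem_sup.1 this

omit hF in
theorem Good.eq_zero (G : Good q k X A A') {x : Fin n → F} (h1 : x ∈ A) (h2 : x ∈ A') : x = 0 := by
  have : x ∈ A ⊓ A' := Submodule.mem_inf.2 ⟨h1, h2⟩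
  rw [G.inf] at this
  exact (Submodule.mem_bot F).1 this

/-- A non-zero vector of `A` is not orthogonal to `A'`. -/
theorem Good.exists_ne (G : Good q k X A A') {a : Fin n → F} (ha : a ∈ A) (ha0 : a ≠ 0) :
    ∃ b ∈ A', hermForm n F q a b ≠ 0 := by
  obtain ⟨v, hv⟩ := exists_herm_ne_zero hF ha0
  obtain ⟨x, hx, y, hy, rfl⟩ := G.decomp v
  refine ⟨y, hy, ?_⟩
  rwa [herm_add_right hF, G.ti a ha x hx, zero_add] at hv

theorem Good.exists_eq_one (G : Good q k X A A') {a : Fin n → F} (ha : a ∈ A) (ha0 : a ≠ 0) :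
    ∃ b ∈ A', hermForm n F q a b = 1 ∧ hermForm n F q b a = 1 := by
  obtain ⟨b, hb, hab⟩ := G.exists_ne hF ha ha0
  refine ⟨((hermForm n F q a b)⁻¹ ^ q) • b, A'.smul_mem _ hb, ?_⟩
  have : hermForm n F q a (((hermForm n F q a b)⁻¹ ^ q) • b) = 1 := by
    rw [herm_smul_right, pow_q_pow_q hF, inv_mul_cancel₀ hab]
  exact ⟨this, by rw [herm_swap hF, this, one_pow]⟩

/-- A vector orthogonal to `A` is in `A`. -/
theorem Good.mem_of_perp (G : Good q k X A A') {x : Fin n → F}
    (h : ∀ a ∈ A, hermForm n F q x a = 0) : x ∈ A := by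
  obtain ⟨a, ha, b, hb, rfl⟩ := G.decomp x
  by_cases hb0 : b = 0
  · rw [hb0, add_zero]; exact ha
  · exfalso
    obtain ⟨c, hc, hbc⟩ := (G.symm hF).exists_ne hF hb hb0
    apply hbc
    have := h c hc
    rwa [herm_add_left, G.ti a ha c hc, zero_add] at this

/-- Separation: if `u` is not a multiple of `a`, some `b ∈ A'` is orthogonal to `a` but not to `u`. -/
theorem Good.exists_sep (G : Good q k X A A') {a u : Fin n → F} (ha : a ∈ A) (hu : u ∈ A)
    (hau : u ∉ Submodule.span F {a}) :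
    ∃ b ∈ A', hermForm n F q a b = 0 ∧ hermForm n F q u b ≠ 0 := by
  by_contra hcon
  push Not at hcon
  by_cases ha0 : a = 0
  · apply hau
    have : u ∈ A' := by
      apply (G.symm hF).mem_of_perp hF
      intro b hb
      exact hcon b hb (by rw [ha0, herm_zero_left])
    rw [G.eq_zero hu this]
    exact Submodule.zero_mem _
  · obtain ⟨b₀, hb₀, hab₀⟩ := G.exists_ne hF ha ha0
    apply hau
    set τ := hermForm n F q u b₀ / hermForm n F q a b₀ with hτ
    have key : ∀ b ∈ A', hermForm n F q (u - τ • a) b = 0 := by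
      intro b hb
      have h1 : hermForm n F q a (b - ((hermForm n F q a b / hermForm n F q a b₀) ^ q) • b₀) = 0 := by
        rw [herm_sub_right hF, herm_smul_right, pow_q_pow_q hF, div_mul_cancel₀ _ hab₀, sub_self]
      have h2 := hcon _ (A'.sub_mem hb (A'.smul_mem _ hb₀)) h1
      rw [herm_sub_right hF, herm_smul_right, pow_q_pow_q hF] at h2
      rw [herm_sub_left, herm_smul_left, hτ]
      rw [div_mul_eq_mul_div] at h2 ⊢
      rw [← h2]
      ring
    have h3 : u - τ • a ∈ A' := (G.symm hF).mem_of_perp hF key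
    have h4 : u - τ • a = 0 := G.eq_zero (A.sub_mem hu (A.smul_mem _ ha)) h3
    rw [sub_eq_zero.1 h4]
    exact Submodule.smul_mem _ _ (Submodule.mem_span_singleton_self a)

end

end Cfsg.Agent.H918.Pair
end

-- part: H918/PairTv
section
/-!
# Overgroups of the stabiliser of a pair of totally isotropic subspaces: transvections

If `(A, A')` and `(A, A'')` are good pairs with `A' ≠ A''` then `X` contains a transvection with centre in
`A`, hence all of them; if `X` contains all transvections with centre in `A` or `A'`, it contains `SU_n(q)`.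
-/

set_option autoImplicit false
set_option linter.unusedSectionVars false

namespace Cfsg.Agent.H918.Pair

open Cfsg Cfsg.Agent.LieClassical.HermBasic Cfsg.Agent.H918
open scoped Matrix MatrixGroups

variable {F : Type*} [Field F] {n q : ℕ} [Fintype F] (hF : Fintype.card F = q ^ 2)

variable {k : ℕ} {X : Subgroup (Matrix.GeneralLinearGroup (Fin n) F)}
  {A A' A'' : Submodule F (Fin n → F)}

include hF

theorem hasT_smul {v : Fin n → F} {c ν : F} (h : HasT q X (ν • v) c) :
    HasT q X v (c * (ν * ν ^ q)) := by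
  obtain ⟨g, hg, hx⟩ := h
  refine ⟨g, hg, fun x => ?_⟩
  rw [hx, herm_smul_right]
  funext i
  simp only [Pi.add_apply, Pi.smul_apply, smul_eq_mul]
  ring

/-- Two different partners of `A` give a transvection with centre in `A`. -/
theorem exists_hasT (hk : 2 ≤ k) (G₁ : Good q k X A A') (G₂ : Good q k X A A'') (hne : A' ≠ A'') :
    ∃ a ∈ A, a ≠ 0 ∧ ∃ c : F, c ≠ 0 ∧ c + c ^ q = 0 ∧ HasT q X a c := by
  -- a vector `b ∈ A'`, `u ∈ A` with `b + u ∈ A''`, `u ≠ 0`
  obtain ⟨b, hb, u, hu, hbu, hu0⟩ : ∃ b ∈ A', ∃ u ∈ A, b + u ∈ A'' ∧ u ≠ 0 := by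
    by_contra hcon
    push Not at hcon
    apply hne
    apply Submodule.eq_of_le_of_finrank_eq
    · intro b hb
      obtain ⟨a, ha, c, hc, hac⟩ := G₂.decomp b
      have h1 : b + (-a) = c := by rw [← hac]; abel
      have h2 := hcon b hb (-a) (A.neg_mem ha) (by rw [h1]; exact hc)
      rw [h2, add_zero] at h1
      rw [h1]; exact hc
    · rw [G₁.rk', G₂.rk']
  set lam := hermForm n F q b u with hlam
  have hub : hermForm n F q u b = lam ^ q := herm_swap hF _ _
  have htr : lam + lam ^ q = 0 := by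
    have h := G₂.ti' _ hbu _ hbu
    rw [herm_add_left, herm_add_right hF, herm_add_right hF, G₁.ti' b hb b hb, G₁.ti u hu u hu, hub,
      ← hlam] at h
    linear_combination h
  -- the elements `R(a)`
  have hR : ∀ a ∈ A, hermForm n F q a b = 0 → ∃ g ∈ X, ∀ x : Fin n → F,
      (g : Matrix (Fin n) (Fin n) F) *ᵥ x = x + hermForm n F q x u • a - hermForm n F q x a • u +
        (lam * hermForm n F q x a) • a := by
    intro a ha hab
    obtain ⟨g₁, hg₁, hx₁⟩ := G₁.sg a ha (-b) (A'.neg_mem hb) (by rw [herm_neg_right hF, hab, neg_zero])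
    obtain ⟨g₂, hg₂, hx₂⟩ := G₂.sg a ha (b + u) hbu (by
      rw [herm_add_right hF, hab, G₁.ti a ha u hu, add_zero])
    refine ⟨g₂ * g₁, X.mul_mem hg₂ hg₁, fun x => ?_⟩
    rw [mul_mulVec, hx₁, hx₂]
    have hba : hermForm n F q b a = 0 := herm_eq_zero_swap hF hab
    simp only [herm_add_left, herm_sub_left, herm_smul_left, herm_add_right hF, herm_neg_right hF,
      herm_neg_left, hab, hba, G₁.ti a ha a ha, G₁.ti a ha u hu, G₁.ti' b hb b hb, ← hlam]
    funext i
    simp only [Pi.add_apply, Pi.sub_apply, Pi.smul_apply, Pi.neg_apply, smul_eq_mul]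
    ring
  by_cases hl0 : lam = 0
  · -- transvection with centre `u`
    obtain ⟨ν, hν⟩ := exists_not_fixed hF
    obtain ⟨g, hg, hx⟩ := hR (ν • u) (A.smul_mem _ hu) (by
      rw [herm_smul_left, hub, hl0, zero_pow_q hF, mul_zero])
    refine ⟨u, hu, hu0, ν - ν ^ q, sub_ne_zero.2 (Ne.symm hν), ?_, g, hg, fun x => ?_⟩
    · rw [sub_pow_q hF, pow_q_pow_q hF]; ring
    · rw [hx, hl0, herm_smul_right]
      funext i
      simp only [Pi.add_apply, Pi.sub_apply, Pi.smul_apply, smul_eq_mul]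
      ring
  · -- some `a ∈ A` orthogonal to `b`
    obtain ⟨a, haA, ha0⟩ : ∃ a ∈ A ⊓ vp q b, a ≠ 0 := by
      apply Submodule.exists_mem_ne_zero_of_ne_bot
      intro hbot
      have := finrank_le_inf_vp (q := q) A b
      rw [hbot, finrank_bot, G₁.rk] at this
      omega
    obtain ⟨ha, hab⟩ := Submodule.mem_inf.1 haA
    rw [mem_vp] at hab
    obtain ⟨ν, hν⟩ := exists_trace_ne hF
    obtain ⟨g₁, hg₁, hx₁⟩ := hR a ha hab
    obtain ⟨g₂, hg₂, hx₂⟩ := hR (ν • a) (A.smul_mem _ ha) (by rw [herm_smul_left, hab, mul_zero])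
    obtain ⟨g₃, hg₃, hx₃⟩ := hR ((1 + ν) • a) (A.smul_mem _ ha) (by rw [herm_smul_left, hab, mul_zero])
    have hcq : (-(lam * (ν + ν ^ q))) ^ q = lam * (ν + ν ^ q) := by
      rw [neg_pow_q hF, mul_pow, trace_pow_q hF]
      have : lam ^ q = -lam := by linear_combination htr
      rw [this]; ring
    refine ⟨a, ha, ha0, -(lam * (ν + ν ^ q)), neg_ne_zero.2 (mul_ne_zero hl0 hν), ?_,
      g₃⁻¹ * (g₂ * g₁), X.mul_mem (X.inv_mem hg₃) (X.mul_mem hg₂ hg₁), fun x => ?_⟩
    · rw [hcq]; ring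
    · rw [mul_mulVec]
      apply mulVec_inj g₃
      rw [mulVec_inv_mulVec, mul_mulVec, hx₁, hx₂, hx₃]
      have hua : hermForm n F q u a = 0 := G₁.ti u hu a ha
      have hau : hermForm n F q a u = 0 := G₁.ti a ha u hu
      have huu : hermForm n F q u u = 0 := G₁.ti u hu u hu
      have haa : hermForm n F q a a = 0 := G₁.ti a ha a ha
      simp only [herm_add_left, herm_sub_left, herm_smul_left, herm_smul_right, hua, hau, huu, haa,
        add_pow_q hF, one_pow]
      funext i
      simp only [Pi.add_apply, Pi.sub_apply, Pi.smul_apply, smul_eq_mul]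
      ring

/-- One transvection with centre in `A` gives all of them. -/
theorem hasT_all (hk : 2 ≤ k) (hX : X ≤ SUg n F q) (G : Good q k X A A') {a : Fin n → F} (ha : a ∈ A)
    (ha0 : a ≠ 0) {c : F} (hc0 : c ≠ 0) (hc : c + c ^ q = 0) (h : HasT q X a c) :
    ∀ v ∈ A, ∀ c' : F, c' + c' ^ q = 0 → HasT q X v c' := by
  -- one step
  have hstep : ∀ w ∈ A, w ≠ 0 → ∀ v ∈ A, v ∉ Submodule.span F {w} → HasT q X w c → HasT q X v c := by
    intro w hw hw0 v hv hvw hwT
    have h1 : w ∉ Submodule.span F {v - w} := by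
      intro hmem
      obtain ⟨t, ht⟩ := Submodule.mem_span_singleton.1 hmem
      have ht0 : t ≠ 0 := by
        rintro rfl
        rw [zero_smul] at ht
        exact hw0 ht.symm
      apply hvw
      rw [Submodule.mem_span_singleton]
      refine ⟨t⁻¹ * (1 + t), ?_⟩
      have h2 : t • v = (1 + t) • w := by
        rw [smul_sub, sub_eq_iff_eq_add] at ht
        rw [add_smul, one_smul, ht]
      rw [mul_smul, ← h2, smul_smul, inv_mul_cancel₀ ht0, one_smul]
    obtain ⟨b, hb, hvb, hwb⟩ := G.exists_sep hF (A.sub_mem hv hw) hw h1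
    obtain ⟨g, hg, hx⟩ := G.sg (v - w) (A.sub_mem hv hw) (((hermForm n F q w b)⁻¹ ^ q) • b)
      (A'.smul_mem _ hb) (by rw [herm_smul_right, hvb, mul_zero])
    have hgw : (g : Matrix (Fin n) (Fin n) F) *ᵥ w = v := by
      rw [hx, herm_smul_right, pow_q_pow_q hF, inv_mul_cancel₀ hwb, G.ti w hw _ (A.sub_mem hv hw),
        one_smul, zero_smul, sub_zero]
      abel
    rw [← hgw]
    exact hwT.conj hg (Subgroup.mem_inf.1 (hX hg)).1
  have hall : ∀ v ∈ A, v ≠ 0 → HasT q X v c := by
    intro v hv hv0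
    by_cases hva : v ∈ Submodule.span F {a}
    · obtain ⟨b, hb, hb0, d, hd, hdb⟩ := exists_indep (S := A) (by rw [G.rk]; exact hk)
      -- some vector of `A` outside the span of `a`
      obtain ⟨w, hw, hwa⟩ : ∃ w ∈ A, w ∉ Submodule.span F {a} := by
        by_contra hcon
        push Not at hcon
        have h1 : A ≤ Submodule.span F {a} := hcon
        have h2 := Submodule.finrank_mono h1
        rw [finrank_span_singleton ha0, G.rk] at h2
        omega
      have hw0 : w ≠ 0 := by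
        rintro rfl
        exact hwa (Submodule.zero_mem _)
      have hvw : v ∉ Submodule.span F {w} := by
        intro hmem
        obtain ⟨t, ht⟩ := Submodule.mem_span_singleton.1 hmem
        have ht0 : t ≠ 0 := by
          rintro rfl
          rw [zero_smul] at ht
          exact hv0 ht.symm
        apply hwa
        have : w = t⁻¹ • v := by rw [← ht, smul_smul, inv_mul_cancel₀ ht0, one_smul]
        rw [this]
        exact Submodule.smul_mem _ _ hva
      exact hstep w hw hw0 v hv hvw (hstep a ha ha0 w hw hwa h)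
    · exact hstep a ha ha0 v hv hva h
  intro v hv c' hc'
  by_cases hv0 : v = 0
  · refine ⟨1, X.one_mem, fun x => ?_⟩
    rw [hv0, smul_zero, add_zero, Units.val_one, Matrix.one_mulVec]
  by_cases hc'0 : c' = 0
  · refine ⟨1, X.one_mem, fun x => ?_⟩
    rw [hc'0, zero_mul, zero_smul, add_zero, Units.val_one, Matrix.one_mulVec]
  have h1 : (c' / c) ^ q = c' / c := by
    rw [div_pow]
    have e1 : c' ^ q = -c' := by linear_combination hc'
    have e2 : c ^ q = -c := by linear_combination hc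
    rw [e1, e2, neg_div_neg_eq]
  obtain ⟨ν, hν⟩ := exists_norm_eq hF h1
  have hν0 : ν ≠ 0 := by
    rintro rfl
    rw [zero_mul] at hν
    exact (div_ne_zero hc'0 hc0) hν.symm
  have h2 := hasT_smul hF (hall (ν • v) (A.smul_mem _ hv) (smul_ne_zero hν0 hv0))
  rwa [hν, mul_div_cancel₀ _ hc0] at h2

/-- All transvections with centre in `A` or in `A'` generate `SU_n(q)`. -/
theorem SUg_le_of_hasT (h32 : ¬ (n = 3 ∧ q = 2)) (hX : X ≤ SUg n F q)
    (G : Good q k X A A')
    (h : ∀ v ∈ A, ∀ c : F, c + c ^ q = 0 → HasT q X v c)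
    (h' : ∀ v ∈ A', ∀ c : F, c + c ^ q = 0 → HasT q X v c) : SUg n F q ≤ X := by
  -- case of `u + w`, `h(w, u) ≠ 0`
  have h1 : ∀ u ∈ A, ∀ w ∈ A', hermForm n F q w u ≠ 0 →
      hermForm n F q w u + (hermForm n F q w u) ^ q = 0 → ∀ c : F, c + c ^ q = 0 →
      HasT q X (u + w) c := by
    intro u hu w hw hwu htr c hc
    have hci := inv_pow_of_trace hF htr
    obtain ⟨g, hg, hx⟩ := h u hu (hermForm n F q w u)⁻¹ (by rw [hci]; ring)
    have hgw : (g : Matrix (Fin n) (Fin n) F) *ᵥ w = u + w := by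
      rw [hx, inv_mul_cancel₀ hwu, one_smul, add_comm]
    rw [← hgw]
    exact (h' w hw c hc).conj hg (Subgroup.mem_inf.1 (hX hg)).1
  apply SUg_le_of_tv hF h32
  intro v c hv hc
  apply HasT.tv_mem hF _ hv hc
  obtain ⟨u, hu, w, hw, rfl⟩ := G.decomp v
  have hiso : hermForm n F q w u + (hermForm n F q w u) ^ q = 0 := by
    rw [← herm_swap hF]
    rw [herm_add_left, herm_add_right hF, herm_add_right hF, G.ti u hu u hu, G.ti' w hw w hw] at hv
    linear_combination hv
  by_cases hw0 : w = 0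
  · rw [hw0, add_zero]; exact h u hu c hc
  by_cases hwu : hermForm n F q w u = 0
  · obtain ⟨u₁, hu₁, hwu₁⟩ := (G.symm hF).exists_ne hF hw hw0
    obtain ⟨c₁, hc₁0, hc₁⟩ := exists_trace_zero_ne hF
    obtain ⟨g, hg, hx⟩ := h u₁ hu₁ c₁ hc₁
    set u' := u - (c₁ * hermForm n F q w u₁) • u₁ with hu'
    have hu'A : u' ∈ A := A.sub_mem hu (A.smul_mem _ hu₁)
    have hgv : (g : Matrix (Fin n) (Fin n) F) *ᵥ (u' + w) = u + w := by
      rw [hx, herm_add_left, G.ti u' hu'A u₁ hu₁, zero_add, hu']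
      abel
    have hc₁q : c₁ ^ q = -c₁ := by linear_combination hc₁
    have hμ : hermForm n F q w u' = c₁ * (hermForm n F q w u₁ * hermForm n F q w u₁ ^ q) := by
      rw [hu', herm_sub_right hF, herm_smul_right, hwu, mul_pow, hc₁q]
      ring
    have hN : hermForm n F q w u₁ * hermForm n F q w u₁ ^ q ≠ 0 :=
      fun h0 => hwu₁ ((norm_eq_zero hF).1 h0)
    rw [← hgv]
    refine (h1 u' hu'A w hw ?_ ?_ c hc).conj hg (Subgroup.mem_inf.1 (hX hg)).1
    · rw [hμ]
      exact mul_ne_zero hc₁0 hN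
    · rw [hμ, mul_pow, norm_pow_q hF, hc₁q]
      ring
  · exact h1 u hu w hw hwu hiso c hc

end Cfsg.Agent.H918.Pair
end

-- part: H918/PairSwap
section
/-!
# An element of `SU_n(q)` interchanging two complementary totally isotropic subspaces
-/

set_option autoImplicit false
set_option linter.unusedSectionVars false

namespace Cfsg.Agent.H918.Pair

open Cfsg Cfsg.Agent.LieClassical.HermBasic Cfsg.Agent.H918
open scoped Matrix MatrixGroups

variable {F : Type*} [Field F] {n q : ℕ} [Fintype F] (hF : Fintype.card F = q ^ 2)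

variable {k : ℕ} {X : Subgroup (Matrix.GeneralLinearGroup (Fin n) F)}
  {A A' A'' : Submodule F (Fin n → F)}

include hF

/-- Dual vectors. -/
theorem exists_dual (G : Good q k X A A') (b : Module.Basis (Fin k) F A) :
    ∃ f : Fin k → (Fin n → F), (∀ j, f j ∈ A') ∧
      ∀ i j, hermForm n F q (f j) (b i : Fin n → F) = if i = j then 1 else 0 := by
  let Φ : A' →ₗ[F] (Fin k → F) :=
    { toFun := fun v i => hermForm n F q v (b i)
      map_add' := fun u v => by funext i; exact herm_add_left _ _ _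
      map_smul' := fun c v => by funext i; exact herm_smul_left _ _ _ }
  have hinj : Function.Injective Φ := by
    rw [← LinearMap.ker_eq_bot, LinearMap.ker_eq_bot']
    intro v hv
    have hv' : ∀ i, hermForm n F q v (b i : Fin n → F) = 0 := fun i => congrFun hv i
    have h0 : (v : Fin n → F) ∈ A := by
      apply G.mem_of_perp hF
      intro w hw
      have h1 : (⟨w, hw⟩ : A) = ∑ i, b.repr ⟨w, hw⟩ i • b i := (b.sum_repr ⟨w, hw⟩).symm
      have h2 : w = ∑ i, b.repr ⟨w, hw⟩ i • (b i : Fin n → F) := by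
        have h3 := congrArg A.subtype h1
        rw [map_sum] at h3
        simpa only [Submodule.subtype_apply, map_smul] using h3
      rw [h2, herm_sum_right hF]
      apply Finset.sum_eq_zero
      intro i _
      rw [herm_smul_right, hv' i, mul_zero]
    exact Subtype.ext (G.eq_zero h0 v.2)
  have hsurj : Function.Surjective Φ := by
    rwa [← LinearMap.injective_iff_surjective_of_finrank_eq_finrank]
    rw [G.rk', Module.finrank_fintype_fun_eq_card, Fintype.card_fin]
  choose f hf using fun j : Fin k => hsurj (Pi.single j 1)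
  refine ⟨fun j => (f j : Fin n → F), fun j => (f j).2, fun i j => ?_⟩
  have := congrFun (hf j) i
  rw [Pi.single_apply] at this
  exact this

/-- The elementary swap. -/
theorem exists_elem_swap {e f : Fin n → F} (he : hermForm n F q e e = 0) (hf : hermForm n F q f f = 0)
    (hfe : hermForm n F q f e = 1) {β : F} (hβ0 : β ≠ 0) (hβ : β + β ^ q = 0) :
    ∃ s ∈ SUg n F q, (s : Matrix (Fin n) (Fin n) F) *ᵥ e = (-β⁻¹) • f ∧
      (s : Matrix (Fin n) (Fin n) F) *ᵥ f = β • e ∧
      ∀ x : Fin n → F, hermForm n F q x e = 0 → hermForm n F q x f = 0 →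
        (s : Matrix (Fin n) (Fin n) F) *ᵥ x = x := by
  have hef : hermForm n F q e f = 1 := by rw [herm_swap hF, hfe, one_pow]
  have hβi : (β⁻¹) ^ q = -β⁻¹ := inv_pow_of_trace hF hβ
  have hα : -β⁻¹ + (-β⁻¹) ^ q = 0 := by rw [neg_pow_q hF, hβi]; ring
  refine ⟨tv hF e β he hβ * (tv hF f (-β⁻¹) hf hα * tv hF e β he hβ),
    Subgroup.mul_mem _ (tv_mem hF _ _) (Subgroup.mul_mem _ (tv_mem hF _ _) (tv_mem hF _ _)), ?_, ?_, ?_⟩
  · rw [mul_mulVec, mul_mulVec]
    simp only [tv_mulVec, he, hf, hef, hfe, herm_add_left, herm_smul_left, mul_zero, zero_smul, add_zero,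
      mul_one, zero_add]
    funext i
    simp only [Pi.add_apply, Pi.smul_apply, smul_eq_mul]
    field_simp
    ring
  · rw [mul_mulVec, mul_mulVec]
    simp only [tv_mulVec, he, hf, hef, hfe, herm_add_left, herm_smul_left, mul_zero, zero_smul, add_zero,
      mul_one, zero_add]
    funext i
    simp only [Pi.add_apply, Pi.smul_apply, smul_eq_mul]
    field_simp
    ring
  · intro x hxe hxf
    rw [mul_mulVec, mul_mulVec]
    simp only [tv_mulVec, hxe, hxf, mul_zero, zero_smul, add_zero]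

/-- There is an element of `SU_n(q)` interchanging `A` and `A'`. -/
theorem exists_swap (G : Good q k X A A') : ∃ s ∈ SUg n F q,
    (∀ x ∈ A, (s : Matrix (Fin n) (Fin n) F) *ᵥ x ∈ A') ∧
    (∀ x ∈ A', (s : Matrix (Fin n) (Fin n) F) *ᵥ x ∈ A) := by
  classical
  have hrk := G.rk
  let b : Module.Basis (Fin k) F A := Module.finBasisOfFinrankEq F A hrk
  obtain ⟨f, hfA, hf⟩ := exists_dual hF G b
  obtain ⟨β, hβ0, hβ⟩ := exists_trace_zero_ne hF
  have hbb : ∀ i j, hermForm n F q (b i : Fin n → F) (b j : Fin n → F) = 0 :=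
    fun i j => G.ti _ (b i).2 _ (b j).2
  have hff : ∀ i j, hermForm n F q (f i) (f j) = 0 := fun i j => G.ti' _ (hfA i) _ (hfA j)
  have hbf : ∀ i j, hermForm n F q (b i : Fin n → F) (f j) = if i = j then 1 else 0 := by
    intro i j
    rw [herm_swap hF, hf]
    split_ifs
    · rw [one_pow]
    · rw [zero_pow_q hF]
  choose s hs hse hsf hsx using fun i : Fin k =>
    exists_elem_swap hF (hbb i i) (hff i i) (by rw [hf, if_pos rfl]) hβ0 hβ
  have hse' : ∀ i j, i ≠ j → (s i : Matrix (Fin n) (Fin n) F) *ᵥ (b j : Fin n → F) = b j := by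
    intro i j hij
    exact hsx i _ (hbb j i) (by rw [hbf, if_neg hij.symm])
  have hsf' : ∀ i j, i ≠ j → (s i : Matrix (Fin n) (Fin n) F) *ᵥ (f j) = f j := by
    intro i j hij
    exact hsx i _ (by rw [hf, if_neg hij]) (hff j i)
  have key : ∀ l : List (Fin k), l.Nodup → ∀ j,
      (j ∈ l → ((l.map s).prod : Matrix.GeneralLinearGroup (Fin n) F).val *ᵥ (b j : Fin n → F) =
          (-β⁻¹) • f j ∧
        ((l.map s).prod : Matrix.GeneralLinearGroup (Fin n) F).val *ᵥ (f j) = β • (b j : Fin n → F)) ∧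
      (j ∉ l → ((l.map s).prod : Matrix.GeneralLinearGroup (Fin n) F).val *ᵥ (b j : Fin n → F) =
          (b j : Fin n → F) ∧
        ((l.map s).prod : Matrix.GeneralLinearGroup (Fin n) F).val *ᵥ (f j) = f j) := by
    intro l
    induction l with
    | nil =>
      intro _ j
      refine ⟨fun h => absurd h List.not_mem_nil, fun _ => ?_⟩
      simp
    | cons i l ih =>
      intro hnd j
      obtain ⟨hil, hl⟩ := List.nodup_cons.1 hnd
      rw [List.map_cons, List.prod_cons]
      constructor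
      · intro hj
        rcases List.mem_cons.1 hj with rfl | hj
        · obtain ⟨h1, h2⟩ := (ih hl j).2 hil
          refine ⟨?_, ?_⟩
          · rw [mul_mulVec, h1, hse]
          · rw [mul_mulVec, h2, hsf]
        · have hij : i ≠ j := by rintro rfl; exact hil hj
          obtain ⟨h1, h2⟩ := (ih hl j).1 hj
          refine ⟨?_, ?_⟩
          · rw [mul_mulVec, h1, Matrix.mulVec_smul, hsf' i j hij]
          · rw [mul_mulVec, h2, Matrix.mulVec_smul, hse' i j hij]
      · intro hj
        have hij : i ≠ j := by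
          rintro rfl
          exact hj List.mem_cons_self
        have hjl : j ∉ l := fun h => hj (List.mem_cons_of_mem _ h)
        obtain ⟨h1, h2⟩ := (ih hl j).2 hjl
        refine ⟨?_, ?_⟩
        · rw [mul_mulVec, h1, hse' i j hij]
        · rw [mul_mulVec, h2, hsf' i j hij]
  have hk := fun j => (key (List.finRange k) (List.nodup_finRange k) j).1 (List.mem_finRange j)
  refine ⟨((List.finRange k).map s).prod, Subgroup.list_prod_mem _ ?_, ?_, ?_⟩
  · intro x hx
    obtain ⟨i, -, rfl⟩ := List.mem_map.1 hx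
    exact hs i
  · intro w hw
    have h1 : (⟨w, hw⟩ : A) = ∑ i, b.repr ⟨w, hw⟩ i • b i := (b.sum_repr ⟨w, hw⟩).symm
    have h2 : w = ∑ i, b.repr ⟨w, hw⟩ i • (b i : Fin n → F) := by
      have h3 := congrArg A.subtype h1
      rw [map_sum] at h3
      simpa only [Submodule.subtype_apply, map_smul] using h3
    rw [h2, Matrix.mulVec_sum]
    apply Submodule.sum_mem
    intro i _
    rw [Matrix.mulVec_smul, (hk i).1]
    exact A'.smul_mem _ (A'.smul_mem _ (hfA i))
  · intro w hw
    have h2 : w = ∑ i, hermForm n F q w (b i : Fin n → F) • f i := by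
      have h3 : w - ∑ i, hermForm n F q w (b i : Fin n → F) • f i ∈ A := by
        apply G.mem_of_perp hF
        intro a ha
        have h4 : (⟨a, ha⟩ : A) = ∑ i, b.repr ⟨a, ha⟩ i • b i := (b.sum_repr ⟨a, ha⟩).symm
        have h5 : a = ∑ i, b.repr ⟨a, ha⟩ i • (b i : Fin n → F) := by
          have h6 := congrArg A.subtype h4
          rw [map_sum] at h6
          simpa only [Submodule.subtype_apply, map_smul] using h6
        rw [h5, herm_sum_right hF]
        apply Finset.sum_eq_zero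
        intro j _
        rw [herm_smul_right, herm_sub_left, herm_sum_left]
        have h7 : ∑ i, hermForm n F q (hermForm n F q w (b i : Fin n → F) • f i) (b j : Fin n → F) =
            hermForm n F q w (b j : Fin n → F) := by
          rw [Finset.sum_eq_single j]
          · rw [herm_smul_left, hf, if_pos rfl, mul_one]
          · intro i _ hij
            rw [herm_smul_left, hf, if_neg hij.symm, mul_zero]
          · intro h; exact absurd (Finset.mem_univ j) h
        rw [h7, sub_self, mul_zero]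
      have h4 : w - ∑ i, hermForm n F q w (b i : Fin n → F) • f i ∈ A' :=
        A'.sub_mem hw (Submodule.sum_mem _ fun i _ => A'.smul_mem _ (hfA i))
      exact sub_eq_zero.1 (G.eq_zero h3 h4)
    rw [h2, Matrix.mulVec_sum]
    apply Submodule.sum_mem
    intro i _
    rw [Matrix.mulVec_smul, (hk i).2]
    exact A.smul_mem _ (A.smul_mem _ (b i).2)

end Cfsg.Agent.H918.Pair
end

-- part: H918/PairMain
section
/-!
# The stabiliser of a pair of complementary totally isotropic subspaces is maximal in `SU_n(q)`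

General `n = 2 k`, `k ≥ 3`, all `q`.
-/

set_option autoImplicit false
set_option linter.unusedSectionVars false

namespace Cfsg.Agent.H918.Pair

open Cfsg Cfsg.Agent.LieClassical.HermBasic Cfsg.Agent.H918
open scoped Matrix MatrixGroups

variable {F : Type*} [Field F] {n q : ℕ} [Fintype F] (hF : Fintype.card F = q ^ 2)

variable {k : ℕ} {X : Subgroup (Matrix.GeneralLinearGroup (Fin n) F)}
  {U W : Submodule F (Fin n → F)}

/-- The `X`-translates of the pair `(U, W)`. -/
def Pr (X : Subgroup (Matrix.GeneralLinearGroup (Fin n) F)) (U W A A' : Submodule F (Fin n → F)) :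
    Prop := ∃ g ∈ X, A = gm g U ∧ A' = gm g W

include hF

section

variable (hX : X ≤ SUg n F q) (G : Good q k X U W) {s : Matrix.GeneralLinearGroup (Fin n) F}
  (hs : s ∈ X) (hsU : gm s U = W) (hsW : gm s W = U)

include hX G in
theorem Pr.good {A A' : Submodule F (Fin n → F)} (h : Pr X U W A A') : Good q k X A A' := by
  obtain ⟨g, hg, rfl, rfl⟩ := h
  exact G.conj hF hX hg

omit hF in
theorem Pr.conj {A A' : Submodule F (Fin n → F)} (h : Pr X U W A A')
    {x : Matrix.GeneralLinearGroup (Fin n) F} (hx : x ∈ X) : Pr X U W (gm x A) (gm x A') := by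
  obtain ⟨g, hg, rfl, rfl⟩ := h
  exact ⟨x * g, X.mul_mem hx hg, (gm_mul _ _ _).symm, (gm_mul _ _ _).symm⟩

include hs hsU hsW in
omit hF in
theorem Pr.symm {A A' : Submodule F (Fin n → F)} (h : Pr X U W A A') : Pr X U W A' A := by
  obtain ⟨g, hg, rfl, rfl⟩ := h
  exact ⟨g * s, X.mul_mem hg hs, by rw [gm_mul, hsU], by rw [gm_mul, hsW]⟩

variable (h32 : ¬ (n = 3 ∧ q = 2)) (hk : 3 ≤ k) (hbig : ¬ SUg n F q ≤ X)

include hX G hs hsU h32 hk hbig in
/-- The partner of `U` is unique. -/
theorem partner_unique {A' : Submodule F (Fin n → F)} (h : Good q k X U A') : A' = W := by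
  by_contra hne
  apply hbig
  obtain ⟨a, ha, ha0, c, hc0, hc, hT⟩ := exists_hasT hF (by omega) G h (Ne.symm hne)
  have h1 := hasT_all hF (by omega) hX G ha ha0 hc0 hc hT
  refine SUg_le_of_hasT hF h32 hX G h1 ?_
  intro v hv c' hc'
  rw [← hsU] at hv
  obtain ⟨u, hu, rfl⟩ := mem_gm.1 hv
  exact (h1 u hu c' hc').conj hs (Subgroup.mem_inf.1 (hX hs)).1

include hX G hs hsU h32 hk hbig in
theorem Pr.uniq {A A' B' : Submodule F (Fin n → F)} (h : Pr X U W A A') (h' : Good q k X A B') :
    B' = A' := by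
  obtain ⟨g, hg, rfl, rfl⟩ := h
  have h1 := h'.conj hF hX (X.inv_mem hg)
  rw [gm_inv_gm] at h1
  have h2 := partner_unique hF hX G hs hsU h32 hk hbig h1
  rw [← h2, gm_gm_inv]

include hX G hs hsU h32 hk hbig in
/-- No transvections with centre in a member of the orbit. -/
theorem Pr.not_hasT {A A' : Submodule F (Fin n → F)} (h : Pr X U W A A') {a : Fin n → F} (ha : a ∈ A)
    (ha0 : a ≠ 0) {c : F} (hc0 : c ≠ 0) (hc : c + c ^ q = 0) (hT : HasT q X a c) : False := by
  obtain ⟨g, hg, rfl, rfl⟩ := h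
  obtain ⟨u, hu, rfl⟩ := mem_gm.1 ha
  have hu0 : u ≠ 0 := by
    rintro rfl
    exact ha0 (Matrix.mulVec_zero _)
  have hT' := hT.conj (X.inv_mem hg) (Subgroup.mem_inf.1 (hX (X.inv_mem hg))).1
  rw [inv_mulVec_mulVec] at hT'
  apply hbig
  have h1 := hasT_all hF (by omega) hX G hu hu0 hc0 hc hT'
  refine SUg_le_of_hasT hF h32 hX G h1 ?_
  intro v hv c' hc'
  rw [← hsU] at hv
  obtain ⟨u, hu, rfl⟩ := mem_gm.1 hv
  exact (h1 u hu c' hc').conj hs (Subgroup.mem_inf.1 (hX hs)).1

include hX G hs hsU hsW h32 hk hbig in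
/-- Siegel elements in common (argument of helper913). -/
theorem Pr.mem_of_perp {A A' B B' : Submodule F (Fin n → F)} (h : Pr X U W A A')
    (h' : Pr X U W B B') {b c : Fin n → F} (hbA : b ∈ A) (hbB : b ∈ B) (hb0 : b ≠ 0) (hc : c ∈ B')
    (hbc : hermForm n F q b c = 0) : c ∈ A' := by
  have GA := h.good hF hX G
  have GB := h'.good hF hX G
  obtain ⟨g, hg, hx⟩ := GB.sg b hbB c hc hbc
  have hgA : gm g A = A := by
    apply gm_eq_of_mulVec_mem
    intro x hxA
    rw [hx, GA.ti x hxA b hbA, zero_smul, sub_zero]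
    exact A.add_mem hxA (A.smul_mem _ hbA)
  have hgA' : gm g A' = A' := by
    have h1 := (h.conj hg).good hF hX G
    rw [hgA] at h1
    exact h.uniq hF hX G hs hsU h32 hk hbig h1
  obtain ⟨y, hy, hby, hyb⟩ := GA.exists_eq_one hF hbA hb0
  set β := hermForm n F q y c with hβ
  have h2 : (g : Matrix (Fin n) (Fin n) F) *ᵥ y ∈ A' := by
    rw [← hgA']
    exact mulVec_mem_gm hy
  rw [hx, hyb, one_smul] at h2
  have h3 : c - β • b ∈ A' := by
    have h3 : c - β • b = y - (y + β • b - c) := by abel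
    rw [h3]
    exact A'.sub_mem hy h2
  by_cases hβ0 : β = 0
  · rwa [hβ0, zero_smul, sub_zero] at h3
  exfalso
  set a₁ := c - β • b with ha₁
  have hca : c = a₁ + β • b := by rw [ha₁]; abel
  have hbb : hermForm n F q b b = 0 := GA.ti b hbA b hbA
  have hba₁ : hermForm n F q b a₁ = 0 := by
    rw [ha₁, herm_sub_right hF, herm_smul_right, hbc, hbb, mul_zero, sub_zero]
  have ha₁b : hermForm n F q a₁ b = 0 := herm_eq_zero_swap hF hba₁
  obtain ⟨μ, hμ⟩ := exists_not_fixed hF
  -- `l * β ^ q = μ`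
  set l := μ / β ^ q with hl
  have hβq : β ^ q ≠ 0 := fun h0 => hβ0 ((pow_q_eq_zero hF).1 h0)
  have hlβ : l * β ^ q = μ := div_mul_cancel₀ _ hβq
  have hlβ' : l ^ q * β = μ ^ q := by
    rw [← hlβ, mul_pow, pow_q_pow_q hF]
  obtain ⟨g₁, hg₁, hx₁⟩ := GA.sg (l • b) (A.smul_mem _ hbA) (-a₁) (A'.neg_mem h3) (by
    rw [herm_smul_left, herm_neg_right hF, hba₁, neg_zero, mul_zero])
  obtain ⟨g₂, hg₂, hx₂⟩ := GB.sg (l • b) (B.smul_mem _ hbB) c hc (by
    rw [herm_smul_left, hbc, mul_zero])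
  refine h.not_hasT hF hX G hs hsU h32 hk hbig hbA hb0 (c := μ - μ ^ q) (sub_ne_zero.2 (Ne.symm hμ)) ?_
    ⟨g₂ * g₁, X.mul_mem hg₂ hg₁, fun x => ?_⟩
  · rw [sub_pow_q hF, pow_q_pow_q hF]; ring
  · rw [mul_mulVec, hx₁, hx₂, hca, ← hlβ', ← hlβ]
    simp only [herm_add_left, herm_sub_left, herm_smul_left, herm_add_right hF, herm_neg_right hF,
      herm_smul_right, herm_neg_left, hbb, hba₁, ha₁b, GA.ti' a₁ h3 a₁ h3]
    funext i
    simp only [Pi.add_apply, Pi.sub_apply, Pi.smul_apply, Pi.neg_apply, smul_eq_mul]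
    ring

include hX G hs hsU hsW h32 hk hbig in
theorem Pr.le_finrank_inf {A A' B B' : Submodule F (Fin n → F)} (h : Pr X U W A A')
    (h' : Pr X U W B B') (hne : A ⊓ B ≠ ⊥) :
    k ≤ Module.finrank F (A' ⊓ B' : Submodule F (Fin n → F)) + 1 := by
  obtain ⟨b, hb, hb0⟩ := Submodule.exists_mem_ne_zero_of_ne_bot hne
  obtain ⟨hbA, hbB⟩ := Submodule.mem_inf.1 hb
  have GB := h'.good hF hX G
  have h1 : B' ⊓ vp q b ≤ A' ⊓ B' := by
    intro c hc
    obtain ⟨hcB, hcb⟩ := Submodule.mem_inf.1 hc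
    exact Submodule.mem_inf.2 ⟨h.mem_of_perp hF hX G hs hsU hsW h32 hk hbig h' hbA hbB hb0 hcB
      (herm_eq_zero_swap hF (mem_vp.1 hcb)), hcB⟩
  have h2 := Submodule.finrank_mono h1
  have h5 := finrank_le_inf_vp (q := q) B' b
  rw [GB.rk'] at h5
  omega

include hX G hs hsU hsW h32 hk hbig in
/-- Distinct members of the orbit intersect trivially. -/
theorem Pr.inf_eq_bot {A A' B B' : Submodule F (Fin n → F)} (h : Pr X U W A A')
    (h' : Pr X U W B B') (hne : A ≠ B) : A ⊓ B = ⊥ := by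
  by_contra hbot
  have GA := h.good hF hX G
  have GB := h'.good hF hX G
  have hs₁ := h.symm hs hsU hsW
  have hs₂ := h'.symm hs hsU hsW
  have h1 := h.le_finrank_inf hF hX G hs hsU hsW h32 hk hbig h' hbot
  have hbot' : A' ⊓ B' ≠ ⊥ := by
    intro h0
    rw [h0, finrank_bot] at h1
    omega
  have h2 := hs₁.le_finrank_inf hF hX G hs hsU hsW h32 hk hbig hs₂ hbot'
  have h3 : B' = A' := by
    apply Submodule.eq_of_le_of_finrank_eq
    · intro c hc
      have h4 := finrank_le_inf_vp (q := q) (A ⊓ B) c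
      obtain ⟨b, hb, hb0⟩ : ∃ b ∈ (A ⊓ B) ⊓ vp q c, b ≠ 0 := by
        apply Submodule.exists_mem_ne_zero_of_ne_bot
        intro h0
        rw [h0, finrank_bot] at h4
        omega
      obtain ⟨hbAB, hbc⟩ := Submodule.mem_inf.1 hb
      obtain ⟨hbA, hbB⟩ := Submodule.mem_inf.1 hbAB
      exact h.mem_of_perp hF hX G hs hsU hsW h32 hk hbig h' hbA hbB hb0 hc (mem_vp.1 hbc)
    · rw [GA.rk', GB.rk']
  apply hne
  have h4 : Good q k X A' B := by rw [← h3]; exact hs₂.good hF hX G
  exact (hs₁.uniq hF hX G hs hsU h32 hk hbig h4).symm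

include hX G hs hsU hsW h32 hk hbig in
/-- Every element of `X` preserves or interchanges `U` and `W`. -/
theorem preserves {g : Matrix.GeneralLinearGroup (Fin n) F} (hg : g ∈ X) :
    (gm g U = U ∧ gm g W = W) ∨ (gm g U = W ∧ gm g W = U) := by
  have hUW : Pr X U W U W := ⟨1, X.one_mem, (gm_one _).symm, (gm_one _).symm⟩
  have hWU : Pr X U W W U := hUW.symm hs hsU hsW
  have hB := hUW.conj hg
  have GB := hB.good hF hX G
  by_cases h1 : gm g U = U
  · left
    refine ⟨h1, ?_⟩
    rw [h1] at GB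
    exact hUW.uniq hF hX G hs hsU h32 hk hbig GB
  by_cases h2 : gm g U = W
  · right
    refine ⟨h2, ?_⟩
    rw [h2] at GB
    exact hWU.uniq hF hX G hs hsU h32 hk hbig GB
  exfalso
  set B := gm g U with hBdef
  have hBU : B ⊓ U = ⊥ := hB.inf_eq_bot hF hX G hs hsU hsW h32 hk hbig hUW h1
  have hBW : B ⊓ W = ⊥ := hB.inf_eq_bot hF hX G hs hsU hsW h32 hk hbig hWU h2
  have hU0 : U ≠ ⊥ := by
    intro h0
    have := G.rk
    rw [h0, finrank_bot] at this
    omega
  obtain ⟨a, ha, ha0⟩ := Submodule.exists_mem_ne_zero_of_ne_bot hU0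
  -- a vector of `B ∩ a^⊥` with `U`-component outside the span of `a`
  obtain ⟨x, hxB, hxa, u, hu, w, hw, huw, hua⟩ : ∃ x ∈ B, hermForm n F q x a = 0 ∧
      ∃ u ∈ U, ∃ w ∈ W, u + w = x ∧ u ∉ Submodule.span F {a} := by
    by_contra hcon
    push Not at hcon
    have h3 : B ⊓ vp q a ≤ Submodule.span F {a} ⊔ W := by
      intro x hx
      obtain ⟨hxB, hxa⟩ := Submodule.mem_inf.1 hx
      obtain ⟨u, hu, w, hw, huw⟩ := G.decomp x
      have := hcon x hxB (mem_vp.1 hxa) u hu w hw huw
      rw [← huw]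
      exact Submodule.add_mem_sup this hw
    have h4 : (B ⊓ vp q a) ⊔ W ≤ Submodule.span F {a} ⊔ W := sup_le h3 le_sup_right
    have h5 := Submodule.finrank_mono h4
    have h6 := Submodule.finrank_add_le_finrank_add_finrank (Submodule.span F {a}) W
    rw [finrank_span_singleton ha0, G.rk'] at h6
    have h7 := Submodule.finrank_sup_add_finrank_inf_eq (B ⊓ vp q a) W
    have h8 : (B ⊓ vp q a) ⊓ W = ⊥ := by
      rw [eq_bot_iff, ← hBW]
      exact inf_le_inf_right _ inf_le_left
    rw [h8, finrank_bot, G.rk'] at h7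
    have h9 := finrank_le_inf_vp (q := q) B a
    rw [GB.rk] at h9
    omega
  obtain ⟨b, hb, hab, hub⟩ := G.exists_sep hF ha hu hua
  have hxb : hermForm n F q x b ≠ 0 := by
    rw [← huw, herm_add_left, G.ti' w hw b hb, add_zero]
    exact hub
  obtain ⟨g₁, hg₁, hx₁⟩ := G.sg a ha b hb hab
  have hne : B ≠ gm g₁ B := by
    intro heq
    have h3 : (g₁ : Matrix (Fin n) (Fin n) F) *ᵥ x ∈ B := by
      rw [heq]
      exact mulVec_mem_gm hxB
    rw [hx₁, hxa, zero_smul, sub_zero] at h3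
    have h4 : hermForm n F q x b • a ∈ B := by
      have := B.sub_mem h3 hxB
      rwa [add_sub_cancel_left] at this
    have h5 : a ∈ B := by
      have : a = (hermForm n F q x b)⁻¹ • (hermForm n F q x b • a) := by
        rw [smul_smul, inv_mul_cancel₀ hxb, one_smul]
      rw [this]
      exact B.smul_mem _ h4
    have h6 : a ∈ B ⊓ U := Submodule.mem_inf.2 ⟨h5, ha⟩
    rw [hBU] at h6
    exact ha0 ((Submodule.mem_bot F).1 h6)
  have hbot := hB.inf_eq_bot hF hX G hs hsU hsW h32 hk hbig (hB.conj hg₁) hne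
  have h3 : (B ⊓ vp q a) ⊓ vp q b ≤ B ⊓ gm g₁ B := by
    intro y hy
    obtain ⟨hy1, hyb⟩ := Submodule.mem_inf.1 hy
    obtain ⟨hyB, hya⟩ := Submodule.mem_inf.1 hy1
    refine Submodule.mem_inf.2 ⟨hyB, mem_gm.2 ⟨y, hyB, ?_⟩⟩
    rw [hx₁, mem_vp.1 hya, mem_vp.1 hyb, zero_smul, zero_smul, add_zero, sub_zero]
  have h4 := Submodule.finrank_mono h3
  rw [hbot, finrank_bot] at h4
  have h5 := finrank_le_inf_vp (q := q) B a
  have h6 := finrank_le_inf_vp (q := q) (B ⊓ vp q a) b
  rw [GB.rk] at h5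
  omega

end

end Cfsg.Agent.H918.Pair
end

-- part: H918/PairMax
section
/-!
# The stabiliser of a pair of complementary totally isotropic subspaces is maximal in `SU_n(q)`

`pair_maximal`: `n = 2 k`, `k ≥ 3`, all `q`.
-/

set_option autoImplicit false
set_option linter.unusedSectionVars false

namespace Cfsg.Agent.H918.Pair

open Cfsg Cfsg.Agent.LieClassical.HermBasic Cfsg.Agent.H918
open scoped Matrix MatrixGroups

variable {F : Type*} [Field F] {n q : ℕ}

/-- An element preserving or interchanging `D 0` and `D 1` stabilises the decomposition. -/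
theorem mem_decompositionStabilizer_two {D : Fin 2 → Submodule F (Fin n → F)}
    {g : Matrix.GeneralLinearGroup (Fin n) F}
    (h : (gm g (D 0) = D 0 ∧ gm g (D 1) = D 1) ∨ (gm g (D 0) = D 1 ∧ gm g (D 1) = D 0)) :
    g ∈ Geo.decompositionStabilizer D := by
  rcases h with ⟨h0, h1⟩ | ⟨h0, h1⟩
  · refine ⟨1, fun i => ?_⟩
    fin_cases i
    · exact h0
    · exact h1
  · refine ⟨Equiv.swap 0 1, fun i => ?_⟩
    fin_cases i
    · simpa [gm] using h0
    · simpa [gm] using h1

/-- The stabiliser in `SU_{2k}(q)`, `k ≥ 3`, of a pair of complementary totally isotropic subspaces is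
a maximal subgroup. -/
theorem pair_maximal [Fintype F] (hF : Fintype.card F = q ^ 2) {k : ℕ} (hk : 3 ≤ k)
    (hkn : 2 * k = n) (D : Fin 2 → Submodule F (Fin n → F)) (hD : Geo.IsMDecomposition k D)
    (hts : ∀ i, Geo.IsTotallySingularFor (hermForm n F q) (D i)) :
    Geo.IsMaximalIn (SUg n F q) (Geo.decompositionStabilizer D ⊓ SUg n F q) := by
  have hn : 3 ≤ n := by omega
  have h32 : ¬ (n = 3 ∧ q = 2) := by omega
  have hsup : D 0 ⊔ D 1 = ⊤ := by
    rw [← hD.iSup_eq_top]
    apply le_antisymm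
    · exact sup_le (le_iSup D 0) (le_iSup D 1)
    · apply iSup_le
      intro i
      fin_cases i
      · exact le_sup_left
      · exact le_sup_right
  have hinf : D 0 ⊓ D 1 = ⊥ := by
    have := hD.indep.pairwiseDisjoint (show (0 : Fin 2) ≠ 1 by decide)
    exact this.eq_bot
  -- the pair is good for every overgroup
  have hgoodM : Good q k (Geo.decompositionStabilizer D ⊓ SUg n F q) (D 0) (D 1) := by
    refine ⟨fun x hx y hy => hts 0 x hx y hy, fun x hx y hy => hts 1 x hx y hy, hsup, hinf,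
      hD.finrank_eq 0, hD.finrank_eq 1, fun a ha b hb hab => ?_⟩
    have hba := herm_eq_zero_swap hF hab
    obtain ⟨g, hg, hx⟩ := hasS_SUg hF (hts 0 a ha a ha) (hts 1 b hb b hb) hab
    refine ⟨g, Subgroup.mem_inf.2 ⟨mem_decompositionStabilizer_two (Or.inl ⟨?_, ?_⟩), hg⟩, hx⟩
    · apply gm_eq_of_mulVec_mem
      intro x hxA
      rw [hx, hts 0 x hxA a ha, zero_smul, sub_zero]
      exact (D 0).add_mem hxA ((D 0).smul_mem _ ha)
    · apply gm_eq_of_mulVec_mem
      intro x hxA
      rw [hx, hts 1 x hxA b hb, zero_smul, add_zero]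
      exact (D 1).sub_mem hxA ((D 1).smul_mem _ hb)
  obtain ⟨s, hs, hs0, hs1⟩ := exists_swap hF hgoodM
  have hs0' : gm s (D 0) = D 1 := by
    apply Submodule.eq_of_le_of_finrank_eq
    · intro x hx
      obtain ⟨y, hy, rfl⟩ := mem_gm.1 hx
      exact hs0 y hy
    · rw [finrank_gm, hD.finrank_eq, hD.finrank_eq]
  have hs1' : gm s (D 1) = D 0 := by
    apply Submodule.eq_of_le_of_finrank_eq
    · intro x hx
      obtain ⟨y, hy, rfl⟩ := mem_gm.1 hx
      exact hs1 y hy
    · rw [finrank_gm, hD.finrank_eq, hD.finrank_eq]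
  have hsM : s ∈ Geo.decompositionStabilizer D ⊓ SUg n F q :=
    Subgroup.mem_inf.2 ⟨mem_decompositionStabilizer_two (Or.inr ⟨hs0', hs1'⟩), hs⟩
  refine ⟨lt_of_le_of_ne inf_le_right ?_, fun X hMX hX => ?_⟩
  · intro heq
    exact SUg_not_le_decompositionStabilizer hF hn h32 hD (inf_eq_right.1 heq)
  · have hgood : Good q k X (D 0) (D 1) := by
      refine ⟨hgoodM.ti, hgoodM.ti', hsup, hinf, hD.finrank_eq 0, hD.finrank_eq 1,
        fun a ha b hb hab => ?_⟩
      obtain ⟨g, hg, hx⟩ := hgoodM.sg a ha b hb hab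
      exact ⟨g, hMX hg, hx⟩
    by_cases hbig : SUg n F q ≤ X
    · right
      exact le_antisymm hX hbig
    · left
      apply le_antisymm _ hMX
      intro g hg
      refine Subgroup.mem_inf.2 ⟨mem_decompositionStabilizer_two ?_, hX hg⟩
      exact preserves hF hX hgood (hMX hsM) hs0' hs1' h32 hk hbig hg

end Cfsg.Agent.H918.Pair
end
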